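/-
Irreducible sections of order `p ^ 2`: `U0 ≤ U ≤ V` with `U / U0` of order `p ^ 2` and no subgroup
normalised by `V` strictly between. Basic covering tools.
-/
import Mathlib.GroupTheory.Sylow
import Mathlib.GroupTheory.PGroup
import Mathlib.GroupTheory.SpecificGroups.Cyclic
import Mathlib.Tactic.IntervalCases

set_option autoImplicit false

namespace Cfsg.Agent.QTXi

open Subgroup
open scoped commutatorElement

variable {G : Type*} [Group G]

theorem conjMem {V K : Subgroup G} (h : V ≤ normalizer (K : Set G)) {v k : G} (hv : v ∈ V)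
    (hk : k ∈ K) : v * k * v⁻¹ ∈ K :=
  (mem_normalizer_iff.1 (h hv) k).1 hk

theorem leNormalizerOf {V K : Subgroup G} (h : ∀ v ∈ V, ∀ k ∈ K, v * k * v⁻¹ ∈ K) :
    V ≤ normalizer (K : Set G) := fun v hv => by
  refine mem_normalizer_iff.2 fun k => ⟨h v hv k, fun hk => ?_⟩
  have h1 := h v⁻¹ (inv_mem hv) _ hk
  simpa [mul_assoc] using h1

theorem normInf {V A B : Subgroup G} (hA : V ≤ normalizer (A : Set G))
    (hB : V ≤ normalizer (B : Set G)) : V ≤ normalizer ((A ⊓ B : Subgroup G) : Set G) :=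
  leNormalizerOf fun _ hv _ hk => ⟨conjMem hA hv hk.1, conjMem hB hv hk.2⟩

theorem normSup {V A B : Subgroup G} (hA : V ≤ normalizer (A : Set G))
    (hB : V ≤ normalizer (B : Set G)) : V ≤ normalizer ((A ⊔ B : Subgroup G) : Set G) :=
  leNormalizerOf fun v hv k hk => by
    have h : A ⊔ B ≤ (A ⊔ B).comap (MulAut.conj v).toMonoidHom :=
      sup_le (fun x hx => mem_sup_left (conjMem hA hv hx))
        (fun x hx => mem_sup_right (conjMem hB hv hx))
    exact h hk

/-- A Sylow subgroup covers a quotient of prime power order. -/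
theorem exists_pgroup_covering [Finite G] {p : ℕ} [Fact p.Prime] {N U : Subgroup G} {k : ℕ}
    (hle : N ≤ U) (hn : U ≤ normalizer (N : Set G)) (hc : N.relIndex U = p ^ k) :
    ∃ D ≤ U, IsPGroup p D ∧ N ⊔ D = U := by
  obtain ⟨P⟩ := (inferInstance : Nonempty (Sylow p U))
  haveI : (N.subgroupOf U).Normal := normal_subgroupOf_of_le_normalizer hn
  refine ⟨(P : Subgroup U).map U.subtype, map_subtype_le _, P.2.map U.subtype, ?_⟩
  have h1 : (N.subgroupOf U ⊔ (P : Subgroup U)).index ∣ p ^ k := by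
    rw [← hc]; exact index_dvd_of_le le_sup_left
  have h2 : (N.subgroupOf U ⊔ (P : Subgroup U)).index ∣ (P : Subgroup U).index :=
    index_dvd_of_le le_sup_right
  have h3 : (N.subgroupOf U ⊔ (P : Subgroup U)).index = 1 := by
    have hcop : Nat.Coprime (p ^ k) (P : Subgroup U).index :=
      Nat.Coprime.pow_left _ ((Fact.out : p.Prime).coprime_iff_not_dvd.2 P.not_dvd_index)
    exact Nat.eq_one_of_dvd_coprimes hcop h1 h2
  have h4 := congrArg (Subgroup.map U.subtype) (index_eq_one.1 h3)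
  rw [Subgroup.map_sup, ← MonoidHom.range_eq_map, range_subtype, subgroupOf_map_subtype,
    inf_of_le_left hle] at h4
  exact h4

/-- `U / U0` is a section of order `p ^ 2` on which `V` is irreducible. -/
structure IrrSec (p : ℕ) (V U0 U : Subgroup G) : Prop where
  le : U0 ≤ U
  le_amb : U ≤ V
  norm : V ≤ normalizer (U : Set G)
  norm₀ : V ≤ normalizer (U0 : Set G)
  card : U0.relIndex U = p ^ 2
  between : ∀ K : Subgroup G, U0 ≤ K → K ≤ U → V ≤ normalizer (K : Set G) → K = U0 ∨ K = U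

namespace IrrSec

variable {p : ℕ} [hp : Fact p.Prime] {V U0 U : Subgroup G}

theorem ne (h : IrrSec p V U0 U) : U0 ≠ U := fun e => by
  have h1 := h.card
  rw [e, relIndex_self] at h1
  exact (Nat.one_lt_pow (by norm_num) hp.out.one_lt).ne h1

/-- A subgroup normalised by `V` covers the section or meets it in `U0`. -/
theorem dichotomy (h : IrrSec p V U0 U) {K : Subgroup G} (hK : V ≤ normalizer (K : Set G)) :
    U ⊓ K ≤ U0 ∨ U0 ⊔ (U ⊓ K) = U := by
  rcases h.between (U0 ⊔ (U ⊓ K)) le_sup_left (sup_le h.le inf_le_left)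
      (normSup h.norm₀ (normInf h.norm hK)) with e | e
  · exact Or.inl (le_sup_right.trans e.le)
  · exact Or.inr e

theorem pow_mem [Finite G] (h : IrrSec p V U0 U) : ∀ x ∈ U, x ^ p ∈ U0 := by
  haveI : (U0.subgroupOf U).Normal :=
    normal_subgroupOf_of_le_normalizer (h.le_amb.trans h.norm₀)
  have hQ : Nat.card (U ⧸ U0.subgroupOf U) = p ^ 2 := h.card
  have hcomm := (IsPGroup.isMulCommutative_of_card_eq_prime_sq hQ).is_comm.comm
  let f : (U ⧸ U0.subgroupOf U) →* (U ⧸ U0.subgroupOf U) :=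
    { toFun := fun x => x ^ p
      map_one' := one_pow p
      map_mul' := fun x y => Commute.mul_pow (hcomm x y) p }
  let K : Subgroup U := f.range.comap (QuotientGroup.mk' _)
  have hK0 : U0 ≤ K.map U.subtype := fun x hx =>
    ⟨⟨x, h.le hx⟩, ⟨1, by
      rw [map_one]
      exact ((QuotientGroup.eq_one_iff _).2 (mem_subgroupOf.2 hx)).symm⟩, rfl⟩
  have hKn : V ≤ normalizer (K.map U.subtype : Set G) := leNormalizerOf fun v hv k hk => by
    obtain ⟨u, ⟨q, hq⟩, rfl⟩ := hk
    induction q using QuotientGroup.induction_on with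
    | H x =>
      have hq' : (x ^ p)⁻¹ * u ∈ U0.subgroupOf U := QuotientGroup.eq.1 hq
      refine ⟨⟨v * u * v⁻¹, conjMem h.norm hv u.2⟩,
        ⟨((⟨v * x * v⁻¹, conjMem h.norm hv x.2⟩ : U) : U ⧸ U0.subgroupOf U), ?_⟩, rfl⟩
      show (((⟨v * x * v⁻¹, conjMem h.norm hv x.2⟩ : U) : U ⧸ U0.subgroupOf U)) ^ p = _
      rw [← QuotientGroup.mk_pow]
      refine QuotientGroup.eq.2 (mem_subgroupOf.2 ?_)
      have := conjMem h.norm₀ hv (mem_subgroupOf.1 hq')
      simp only [Subgroup.coe_mul, Subgroup.coe_inv, SubgroupClass.coe_pow] at this ⊢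
      rw [conj_pow]
      convert this using 1
      group
  intro x hx
  rcases h.between _ hK0 (map_subtype_le K) hKn with e | e
  · have h1 : ((⟨x, hx⟩ : U) ^ p) ∈ K := by
      show QuotientGroup.mk' (U0.subgroupOf U) ((⟨x, hx⟩ : U) ^ p) ∈ f.range
      exact ⟨((⟨x, hx⟩ : U) : U ⧸ U0.subgroupOf U), by rw [map_pow]; rfl⟩
    have h2 := e.le (mem_map_of_mem U.subtype h1)
    simpa using h2
  · exfalso
    have hsurj : Function.Surjective f := fun q => by
      induction q using QuotientGroup.induction_on with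
      | H y =>
        obtain ⟨y', hy', he⟩ := e.ge y.2
        obtain rfl : y' = y := Subtype.ext he
        exact hy'
    obtain ⟨z, hz⟩ := exists_prime_orderOf_dvd_card' (G := U ⧸ U0.subgroupOf U) p
      (hQ ▸ dvd_pow_self p two_ne_zero)
    have h1 : z = 1 := Finite.injective_iff_surjective.2 hsurj
      (show f z = f 1 by rw [map_one]; show z ^ p = 1; rw [← hz, pow_orderOf_eq_one])
    rw [h1, orderOf_one] at hz
    exact hp.out.ne_one hz.symm

theorem comm_mem [Finite G] (h : IrrSec p V U0 U) {x y : G} (hx : x ∈ U) (hy : y ∈ U) :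
    ⁅x, y⁆ ∈ U0 := by
  haveI : (U0.subgroupOf U).Normal :=
    normal_subgroupOf_of_le_normalizer (h.le_amb.trans h.norm₀)
  have hQ : Nat.card (U ⧸ U0.subgroupOf U) = p ^ 2 := h.card
  have hcomm := (IsPGroup.isMulCommutative_of_card_eq_prime_sq hQ).is_comm.comm
  have h1 : ((⁅(⟨x, hx⟩ : U), (⟨y, hy⟩ : U)⁆ : U) : U ⧸ U0.subgroupOf U) = 1 := by
    show QuotientGroup.mk' _ ⁅(⟨x, hx⟩ : U), (⟨y, hy⟩ : U)⁆ = 1
    rw [map_commutatorElement, commutatorElement_eq_one_iff_mul_comm]
    exact hcomm _ _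
  have h2 := mem_subgroupOf.1 ((QuotientGroup.eq_one_iff _).1 h1)
  simpa [commutatorElement_def] using h2

/-- One element does not generate the section. -/
theorem zpowers_ne [Finite G] (h : IrrSec p V U0 U) {u : G} (hu : u ∈ U) :
    U0 ⊔ zpowers u ≠ U := by
  intro e
  haveI : (U0.subgroupOf U).Normal :=
    normal_subgroupOf_of_le_normalizer (h.le_amb.trans h.norm₀)
  have hQ : Nat.card (U ⧸ U0.subgroupOf U) = p ^ 2 := h.card
  have htop : ∀ q : U ⧸ U0.subgroupOf U, q ∈ zpowers ((⟨u, hu⟩ : U) : U ⧸ U0.subgroupOf U) := by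
    intro q
    induction q using QuotientGroup.induction_on with
    | H x =>
      have hx : U0 ⊔ zpowers u ≤
          ((zpowers ((⟨u, hu⟩ : U) : U ⧸ U0.subgroupOf U)).comap (QuotientGroup.mk' _)).map
            U.subtype := by
        refine sup_le (fun y hy => ⟨⟨y, h.le hy⟩, ?_, rfl⟩) (zpowers_le.2 ⟨⟨u, hu⟩, ?_, rfl⟩)
        · show ((⟨y, h.le hy⟩ : U) : U ⧸ U0.subgroupOf U) ∈
            zpowers (((⟨u, hu⟩ : U) : U ⧸ U0.subgroupOf U))
          rw [(QuotientGroup.eq_one_iff (⟨y, h.le hy⟩ : U)).2 (mem_subgroupOf.2 hy)]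
          exact one_mem _
        · exact mem_zpowers (((⟨u, hu⟩ : U) : U ⧸ U0.subgroupOf U))
      obtain ⟨x', hx', he⟩ := hx (e.ge x.2)
      obtain rfl : x' = x := Subtype.ext he
      exact hx'
  have h1 := orderOf_eq_card_of_forall_mem_zpowers htop
  have h2 : orderOf ((⟨u, hu⟩ : U) : U ⧸ U0.subgroupOf U) ∣ p := orderOf_dvd_of_pow_eq_one (by
    rw [← QuotientGroup.mk_pow]
    exact (QuotientGroup.eq_one_iff _).2 (mem_subgroupOf.2 (by simpa using h.pow_mem u hu)))
  rw [h1, hQ] at h2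
  have h3 := Nat.le_of_dvd hp.out.pos h2
  have h4 := hp.out.two_le
  nlinarith

/-- The action on the section is not trivial. -/
theorem not_trivial [Finite G] (h : IrrSec p V U0 U) :
    ¬ ∀ v ∈ V, ∀ u ∈ U, ⁅v, u⁆ ∈ U0 := by
  intro hall
  obtain ⟨u, hu, hu0⟩ := SetLike.exists_of_lt (lt_of_le_of_ne h.le h.ne)
  refine (h.between (U0 ⊔ zpowers u) le_sup_left (sup_le h.le (zpowers_le.2 hu)) ?_).elim
    (fun e => hu0 (e.le (mem_sup_right (T := zpowers u) (mem_zpowers u)))) (h.zpowers_ne hu)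
  refine leNormalizerOf fun v hv k hk => ?_
  have hle : U0 ⊔ zpowers u ≤ (U0 ⊔ zpowers u).comap (MulAut.conj v).toMonoidHom := by
    refine sup_le (fun x hx => mem_sup_left (conjMem h.norm₀ hv hx)) (zpowers_le.2 ?_)
    show v * u * v⁻¹ ∈ U0 ⊔ zpowers u
    rw [show v * u * v⁻¹ = ⁅v, u⁆ * u by rw [commutatorElement_def]; group]
    exact mul_mem (mem_sup_left (hall v hv u hu)) (mem_sup_right (T := zpowers u) (mem_zpowers u))
  exact hle hk

/-- A section of order `p ^ 2` inherited by a covering subgroup and its normaliser. -/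
theorem restrict (h : IrrSec p V U0 U) {V' U' : Subgroup G} (hU' : U' ≤ U) (hcov : U0 ⊔ U' = U)
    (hV : V' ≤ V) (hU'V : U' ≤ V') (hN : V' ≤ normalizer (U' : Set G)) (hgen : V ≤ V' ⊔ U0) :
    IrrSec p V' (U0 ⊓ U') U' := by
  have hn : U' ≤ normalizer (U0 : Set G) := hU'V.trans (hV.trans h.norm₀)
  refine ⟨inf_le_right, hU'V, hN, normInf (hV.trans h.norm₀) hN, ?_, fun K h1 h2 h3 => ?_⟩
  · haveI : (U0.subgroupOf (U0 ⊔ U')).Normal :=
      normal_subgroupOf_of_le_normalizer (sup_le le_normalizer hn)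
    rw [inf_relIndex_right, ← h.card, ← hcov]
    refine (?_ : U0.relIndex (U0 ⊔ U') = U0.relIndex U').symm
    have e := relIndex_sup_right (H := U'.subgroupOf (U0 ⊔ U')) (K := U0.subgroupOf (U0 ⊔ U'))
    rw [← subgroupOf_sup le_sup_right le_sup_left, sup_comm U', subgroupOf_self, relIndex_top_right,
      relIndex_subgroupOf le_sup_right] at e
    exact e
  · have hU'U0 : U' ≤ normalizer (U0 : Set G) := hn
    have hKn : V ≤ normalizer ((U0 ⊔ K : Subgroup G) : Set G) := by
      refine hgen.trans (sup_le (normSup (hV.trans h.norm₀) h3) ?_)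
      exact le_sup_left.trans le_normalizer
    have hK : K = (U0 ⊔ K) ⊓ U' := by
      refine le_antisymm (le_inf le_sup_right h2) fun x hx => ?_
      obtain ⟨hx1, hx2⟩ := hx
      have hx1' : x ∈ ((U0 ⊔ K : Subgroup G) : Set G) := hx1
      rw [coe_mul_of_right_le_normalizer_left U0 K (h2.trans hU'U0), Set.mem_mul] at hx1'
      obtain ⟨a, ha, k, hk, rfl⟩ := hx1'
      exact mul_mem (h1 ⟨ha, by simpa using U'.mul_mem hx2 (U'.inv_mem (h2 hk))⟩) hk
    rcases h.between _ le_sup_left (sup_le h.le (h2.trans hU')) hKn with e | e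
    · exact Or.inl (le_antisymm (le_inf (le_sup_right.trans e.le) h2) h1)
    · refine Or.inr ?_
      rw [hK, e, inf_eq_right.2 hU']

/-- The kernel of an action with cyclic `p`-subgroups in its image covers the section. -/
theorem ker_covers [Finite G] (h : IrrSec p V U0 U) {X : Type*} [Group X] (φ : V →* X)
    (hcyc : ∀ P : Subgroup X, IsPGroup p P → P ≤ (U.subgroupOf V).map φ → IsCyclic P) :
    U0 ⊔ (U ⊓ φ.ker.map V.subtype) = U := by
  have hKn : V ≤ normalizer (φ.ker.map V.subtype : Set G) := leNormalizerOf fun v hv k hk => by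
    obtain ⟨k', hk', rfl⟩ := hk
    exact ⟨⟨v, hv⟩ * k' * ⟨v, hv⟩⁻¹, φ.normal_ker.conj_mem k' hk' _, rfl⟩
  refine (h.dichotomy hKn).resolve_left fun hle => ?_
  obtain ⟨D, hDU, hD, hDcov⟩ := exists_pgroup_covering h.le (h.le_amb.trans h.norm₀) h.card
  have hDV : D ≤ V := hDU.trans h.le_amb
  have hPimg : IsPGroup p ((D.subgroupOf V).map φ) :=
    (hD.of_equiv (subgroupOfEquivOfLe hDV).symm).map φ
  haveI := hcyc _ hPimg (map_mono fun _ hx => hDU hx)
  obtain ⟨⟨g, hg⟩, hgen⟩ := IsCyclic.exists_generator (α := ↥((D.subgroupOf V).map φ))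
  obtain ⟨u, hu, rfl⟩ := hg
  refine h.zpowers_ne (hDU hu) (le_antisymm (sup_le h.le (zpowers_le.2 (hDU hu))) ?_)
  rw [← hDcov]
  refine sup_le le_sup_left fun d hd => ?_
  obtain ⟨i, hi⟩ := mem_zpowers_iff.1 (hgen ⟨φ ⟨d, hDV hd⟩, mem_map_of_mem φ hd⟩)
  have hi' : φ (u ^ i) = φ ⟨d, hDV hd⟩ := by
    rw [map_zpow]; exact congrArg Subtype.val hi
  have hker : d * ((u : G) ^ i)⁻¹ ∈ U ⊓ φ.ker.map V.subtype := by
    refine ⟨mul_mem (hDU hd) (U.inv_mem (zpow_mem (hDU hu) i)),
      ⟨⟨d, hDV hd⟩ * (u ^ i)⁻¹, ?_, by simp⟩⟩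
    rw [SetLike.mem_coe, MonoidHom.mem_ker, map_mul, map_inv, hi', mul_inv_cancel]
  have := mul_mem (mem_sup_left (T := zpowers (u : G)) (hle hker))
    (mem_sup_right (S := U0) (zpow_mem (mem_zpowers (u : G)) i))
  simpa using this

/-- The kernel of an abelian action covers the section. -/
theorem ker_covers_of_comm [Finite G] (h : IrrSec p V U0 U) {X : Type*} [Group X] (φ : V →* X)
    (hcomm : ∀ a b : V, φ a * φ b = φ b * φ a) :
    U0 ⊔ (U ⊓ φ.ker.map V.subtype) = U := by
  have hKn : V ≤ normalizer (φ.ker.map V.subtype : Set G) := leNormalizerOf fun v hv k hk => by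
    obtain ⟨k', hk', rfl⟩ := hk
    exact ⟨⟨v, hv⟩ * k' * ⟨v, hv⟩⁻¹, φ.normal_ker.conj_mem k' hk' _, rfl⟩
  refine (h.dichotomy hKn).resolve_left fun hle => h.not_trivial fun v hv u hu => hle ⟨?_, ?_⟩
  · rw [commutatorElement_def]
    exact mul_mem (conjMem h.norm hv hu) (U.inv_mem hu)
  · refine ⟨⁅(⟨v, hv⟩ : V), ⟨u, h.le_amb hu⟩⁆, ?_, by simp [commutatorElement_def]⟩
    rw [SetLike.mem_coe, MonoidHom.mem_ker, map_commutatorElement,
      commutatorElement_eq_one_iff_mul_comm]
    exact hcomm _ _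

/-- A covering `p`-subgroup, irreducible under its normaliser in `V`. -/
theorem exists_covering_pgroup [Finite G] (h : IrrSec p V U0 U) :
    ∃ D : Subgroup G, D ≤ U ∧ IsPGroup p D ∧ U0 ⊔ D = U ∧
      (∀ X : Subgroup G, X ≤ U → IsPGroup p X → U ≤ normalizer (X : Set G) → X ≤ D) ∧
      (∀ x ∈ V, ∃ n ∈ V ⊓ normalizer (D : Set G), ∃ c ∈ U, x = n * c) ∧
      IrrSec p (V ⊓ normalizer (D : Set G)) (U0 ⊓ D) D := by
  haveI : (U.subgroupOf V).Normal := normal_subgroupOf_of_le_normalizer h.norm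
  obtain ⟨Q⟩ := (inferInstance : Nonempty (Sylow p ↥(U.subgroupOf V)))
  set D := ((Q : Subgroup ↥(U.subgroupOf V)).map (U.subgroupOf V).subtype).map V.subtype with hDdef
  have hDU : D ≤ U := by
    rintro _ ⟨x, ⟨y, -, rfl⟩, rfl⟩
    exact y.2
  have hDV : D ≤ V := hDU.trans h.le_amb
  have hD : IsPGroup p D := (Q.2.map _).map _
  have hcov : U0 ⊔ D = U := by
    haveI : ((U0.subgroupOf V).subgroupOf (U.subgroupOf V)).Normal :=
      normal_subgroupOf_of_le_normalizer (by
        intro x hx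
        refine mem_normalizer_iff.2 fun k => ?_
        simp only [mem_subgroupOf, Subgroup.coe_mul, Subgroup.coe_inv]
        exact mem_normalizer_iff.1 (h.norm₀ x.2) k)
    have h1 : ((U0.subgroupOf V).subgroupOf (U.subgroupOf V) ⊔
        (Q : Subgroup ↥(U.subgroupOf V))).index ∣ p ^ 2 := by
      rw [← h.card, ← relIndex_subgroupOf h.le_amb]
      exact index_dvd_of_le le_sup_left
    have h3 := Nat.eq_one_of_dvd_coprimes
      (Nat.Coprime.pow_left _ (hp.out.coprime_iff_not_dvd.2 Q.not_dvd_index)) h1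
      (index_dvd_of_le le_sup_right)
    have h4 := congrArg (fun K => (K.map (U.subgroupOf V).subtype).map V.subtype)
      (index_eq_one.1 h3)
    have hsub : U0.subgroupOf V ≤ U.subgroupOf V := fun x hx => h.le hx
    simpa only [Subgroup.map_sup, ← MonoidHom.range_eq_map, range_subtype, subgroupOf_map_subtype,
      inf_of_le_left hsub, inf_of_le_left h.le_amb, inf_of_le_left (h.le.trans h.le_amb), hDdef]
      using h4
  have hmax : ∀ X : Subgroup G, X ≤ U → IsPGroup p X → U ≤ normalizer (X : Set G) → X ≤ D := by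
    intro X hX hXp hXn
    have hXV : X ≤ V := hX.trans h.le_amb
    have hn : ((X.subgroupOf V).subgroupOf (U.subgroupOf V)).Normal :=
      normal_subgroupOf_of_le_normalizer (by
        intro x hx
        refine mem_normalizer_iff.2 fun k => ?_
        simp only [mem_subgroupOf, Subgroup.coe_mul, Subgroup.coe_inv]
        exact mem_normalizer_iff.1 (hXn hx) k)
    have hp' : IsPGroup p ((X.subgroupOf V).subgroupOf (U.subgroupOf V)) :=
      (hXp.of_equiv (subgroupOfEquivOfLe hXV).symm).of_equiv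
        (subgroupOfEquivOfLe (fun x hx => hX hx : X.subgroupOf V ≤ U.subgroupOf V)).symm
    have hQ := Q.is_maximal' (Q.2.to_sup_of_normal_right hp') le_sup_left
    intro x hx
    exact mem_map_of_mem V.subtype (x := ⟨x, hXV hx⟩)
      ⟨⟨⟨x, hXV hx⟩, hX hx⟩, hQ.le (mem_sup_right hx), rfl⟩
  have hF := congrArg (Subgroup.map V.subtype) (Sylow.normalizer_sup_eq_top Q)
  rw [Subgroup.map_sup, ← MonoidHom.range_eq_map, range_subtype, subgroupOf_map_subtype,
    inf_of_le_left h.le_amb] at hF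
  have hN : (normalizer (((Q : Subgroup ↥(U.subgroupOf V)).map (U.subgroupOf V).subtype :
      Subgroup V) : Set V)).map V.subtype ≤ V ⊓ normalizer (D : Set G) := by
    refine le_inf (map_subtype_le _) ?_
    rintro _ ⟨v, hv, rfl⟩
    exact le_normalizer_map (f := V.subtype) ⟨v, hv, rfl⟩
  have hV : V ≤ (V ⊓ normalizer (D : Set G)) ⊔ U := hF.ge.trans (sup_le_sup_right hN U)
  refine ⟨D, hDU, hD, hcov, hmax, fun x hx => ?_,
    h.restrict hDU hcov inf_le_left (le_inf hDV le_normalizer) inf_le_right ?_⟩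
  · have hx' : x ∈ (((V ⊓ normalizer (D : Set G)) ⊔ U : Subgroup G) : Set G) := hV hx
    rw [coe_mul_of_left_le_normalizer_right _ _ (inf_le_left.trans h.norm), Set.mem_mul] at hx'
    obtain ⟨n, hn, c, hc, rfl⟩ := hx'
    exact ⟨n, hn, c, hc, rfl⟩
  · refine hV.trans (sup_le le_sup_left ?_)
    conv_lhs => rw [← hcov]
    exact sup_le le_sup_right ((le_inf hDV le_normalizer).trans le_sup_left)

end IrrSec

end Cfsg.Agent.QTXi
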