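/-
Covering statements for actions on elementary abelian sections of rank at most two and on
`r`-groups of rank at most two.
-/
import Cfsg.Agent.Lib.QTXi.Sec
import Cfsg.Agent.Lib.GLOrder.Torus
import Cfsg.Agent.Lib.RankTwo.Auto

set_option autoImplicit false

namespace Cfsg.Agent.QTXi

open Subgroup
open scoped commutatorElement MatrixGroups

variable {G : Type*} [Group G] [Finite G] {p : ℕ} [hp : Fact p.Prime] {V U0 U : Subgroup G}

theorem norm_ker_map {X : Type*} [Group X] (φ : V →* X) :
    V ≤ normalizer (φ.ker.map V.subtype : Set G) := leNormalizerOf fun v hv k hk => by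
  obtain ⟨k', hk', rfl⟩ := hk
  exact ⟨⟨v, hv⟩ * k' * ⟨v, hv⟩⁻¹, φ.normal_ker.conj_mem k' hk' _, rfl⟩

theorem isCyclic_pgroup_SL_two (r : ℕ) [Fact r.Prime] (hp2 : p ≠ 2)
    {P : Subgroup SL(2, ZMod r)} (hP : IsPGroup p P) : IsCyclic P := by
  obtain ⟨R, hR⟩ := hP.exists_le_sylow
  suffices hc : IsCyclic (R : Subgroup SL(2, ZMod r)) by
    exact isCyclic_of_injective (inclusion hR) (inclusion_injective hR)
  by_cases hrp : p = r
  · subst hrp
    refine isCyclic_of_card_dvd_prime (p := p) ?_
    obtain ⟨k, hk⟩ := IsPGroup.iff_card.1 R.2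
    have hd := Subgroup.card_subgroup_dvd_card (R : Subgroup SL(2, ZMod p))
    rw [hk, GLOrder.card_SL_two', Nat.card_eq_fintype_card (α := ZMod p), ZMod.card, mul_assoc]
      at hd
    rw [hk]
    by_contra hk1
    have h2 : p ^ 2 ∣ p * ((p + 1) * (p - 1)) := (pow_dvd_pow p (by
      by_contra hk2
      exact hk1 (by simpa using pow_dvd_pow p (show k ≤ 1 by omega)))).trans hd
    rw [pow_two] at h2
    have hp2' := hp.out.two_le
    rcases hp.out.dvd_mul.1 ((Nat.mul_dvd_mul_iff_left hp.out.pos).1 h2) with h | h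
    · have := (Nat.dvd_add_right (dvd_refl p)).1 h
      exact hp.out.not_dvd_one this
    · exact absurd (Nat.le_of_dvd (by omega) h) (by omega)
  · exact GLOrder.isCyclic_sylow_SL_two r p hp2 hrp R

namespace IrrSec

/-- An action on a two dimensional space covers the section. -/
theorem ker_covers_GL2 (h : IrrSec p V U0 U) (hp2 : p ≠ 2) {r : ℕ} [Fact r.Prime]
    (φ : V →* GL (Fin 2) (ZMod r)) : U0 ⊔ (U ⊓ φ.ker.map V.subtype) = U := by
  let d : V →* (ZMod r)ˣ := Matrix.GeneralLinearGroup.det.comp φ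
  set U1 := U ⊓ d.ker.map V.subtype with hU1def
  have hU1 : U0 ⊔ U1 = U := h.ker_covers_of_comm d fun a b => mul_comm _ _
  have h1 : IrrSec p V (U0 ⊓ U1) U1 := h.restrict inf_le_left hU1 le_rfl
    (inf_le_left.trans h.le_amb) (normInf h.norm (norm_ker_map d)) le_sup_left
  have h2 := h1.ker_covers φ fun P hP hPle => by
    haveI := isCyclic_pgroup_SL_two r hp2
      (hP.comap_of_injective Matrix.SpecialLinearGroup.toGL Matrix.SpecialLinearGroup.toGL_injective)
    have hrange : P ≤ (Matrix.SpecialLinearGroup.toGL (n := Fin 2) (R := ZMod r)).range := by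
      intro x hx
      obtain ⟨u, hu, rfl⟩ := hPle hx
      obtain ⟨u', hu', he⟩ := (mem_subgroupOf.1 hu).2
      obtain rfl : u' = u := Subtype.ext he
      refine ⟨⟨(φ u' : Matrix (Fin 2) (Fin 2) (ZMod r)), ?_⟩, Units.ext rfl⟩
      have := congrArg Units.val (MonoidHom.mem_ker.1 hu')
      simpa [d] using this
    rw [← map_comap_eq_self hrange]
    exact isCyclic_of_surjective _ (MonoidHom.subgroupMap_surjective _ _)
  refine le_antisymm (sup_le h.le inf_le_left) ?_
  conv_lhs => rw [← hU1, ← h2]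
  exact sup_le le_sup_left (sup_le (inf_le_left.trans le_sup_left)
    ((inf_le_inf_right _ inf_le_left).trans le_sup_right))

/-- An action on an abelian group of exponent `r` and order at most `r ^ 2` covers the section. -/
theorem ker_covers_mulAut (h : IrrSec p V U0 U) (hp2 : p ≠ 2) {r : ℕ} [hr : Fact r.Prime]
    {E : Type*} [CommGroup E] [Finite E] (hexp : ∀ v : E, v ^ r = 1) (hE : Nat.card E ≤ r ^ 2)
    (φ : V →* MulAut E) : U0 ⊔ (U ⊓ φ.ker.map V.subtype) = U := by
  classical
  have hEr : IsPGroup r E := fun v => ⟨1, by rw [pow_one]; exact hexp v⟩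
  obtain ⟨d, hd⟩ := IsPGroup.iff_card.1 hEr
  have hd2 : d ≤ 2 := (Nat.pow_le_pow_iff_right hr.out.one_lt).1 (hd ▸ hE)
  rcases Nat.lt_or_ge d 2 with hlt | hge
  · haveI : IsCyclic E := by
      interval_cases d
      · haveI : Subsingleton E := (Nat.card_eq_one_iff_unique.1 (by simpa using hd)).1
        exact isCyclic_of_subsingleton
      · exact isCyclic_of_prime_card (p := r) (by simpa using hd)
    obtain ⟨g, hg⟩ := IsCyclic.exists_generator (α := E)
    refine h.ker_covers_of_comm φ fun a b => MulEquiv.ext fun v => ?_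
    obtain ⟨i, rfl⟩ := Subgroup.mem_zpowers_iff.1 (hg v)
    obtain ⟨j, hj⟩ := Subgroup.mem_zpowers_iff.1 (hg (φ a g))
    obtain ⟨k, hk⟩ := Subgroup.mem_zpowers_iff.1 (hg (φ b g))
    rw [map_zpow, map_zpow, MulAut.mul_apply, MulAut.mul_apply, ← hk, map_zpow, ← hj, map_zpow,
      ← hk, ← zpow_mul, ← zpow_mul, ← zpow_mul, ← zpow_mul]
    congr 1
    ring
  · obtain rfl : d = 2 := le_antisymm hd2 hge
    letI : Module (ZMod r) (Additive E) :=
      AddCommGroup.zmodModule (n := r) fun v => congrArg Additive.ofMul (hexp (Additive.toMul v))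
    haveI : Fintype (Additive E) := Fintype.ofFinite _
    have hrk : Module.finrank (ZMod r) (Additive E) = 2 := by
      have h := Module.card_eq_pow_finrank (K := ZMod r) (V := Additive E)
      rw [ZMod.card, ← Nat.card_eq_fintype_card, Nat.card_congr Additive.toMul, hd] at h
      exact (Nat.pow_right_injective hr.out.two_le h).symm
    let b := Module.finBasisOfFinrankEq (ZMod r) (Additive E) hrk
    let ρ : MulAut E →* Module.End (ZMod r) (Additive E) :=
      { toFun := fun u => u.toMonoidHom.toAdditive.toZModLinearMap r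
        map_one' := LinearMap.ext fun v => by simp
        map_mul' := fun u w => LinearMap.ext fun v => by simp }
    let μ : MulAut E →* GL (Fin 2) (ZMod r) :=
      ((LinearMap.toMatrixAlgEquiv b).toMulEquiv.toMonoidHom.comp ρ).toHomUnits
    have hμ : Function.Injective μ := fun u w h => by
      have h1 : ρ u = ρ w := (LinearMap.toMatrixAlgEquiv b).injective (congrArg Units.val h)
      exact MulEquiv.ext fun v =>
        congrArg Additive.toMul (LinearMap.congr_fun h1 (Additive.ofMul v))
    have hk := h.ker_covers_GL2 hp2 (μ.comp φ)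
    have e : (μ.comp φ).ker = φ.ker := by
      ext x; simp [MonoidHom.mem_ker, map_eq_one_iff μ hμ]
    rwa [e] at hk

/-- Covering statement for the action on a section of order at most `r ^ 2` and exponent `r`. -/
theorem covers_section (h : IrrSec p V U0 U) (hp2 : p ≠ 2) {r : ℕ} [Fact r.Prime]
    {B0 B : Subgroup G} (hle : B0 ≤ B) (hB : V ≤ normalizer (B : Set G))
    (hB0 : V ≤ normalizer (B0 : Set G)) (hBB0 : B ≤ normalizer (B0 : Set G))
    (hidx : B0.relIndex B ≤ r ^ 2) (hexp : ∀ b ∈ B, b ^ r ∈ B0)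
    (hcomm : ∀ b ∈ B, ∀ c ∈ B, ⁅b, c⁆ ∈ B0) :
    ∃ K : Subgroup G, K ≤ U ∧ V ≤ normalizer (K : Set G) ∧ U0 ⊔ K = U ∧
      ∀ k ∈ K, ∀ b ∈ B, ⁅k, b⁆ ∈ B0 := by
  haveI hN : (B0.subgroupOf B).Normal := normal_subgroupOf_of_le_normalizer hBB0
  letI : CommGroup (B ⧸ B0.subgroupOf B) :=
    { mul_comm := fun a b => by
        induction a using QuotientGroup.induction_on with
        | H x =>
          induction b using QuotientGroup.induction_on with
          | H y =>
            rw [← commutatorElement_eq_one_iff_mul_comm, ← QuotientGroup.mk'_apply,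
              ← QuotientGroup.mk'_apply, ← map_commutatorElement]
            exact (QuotientGroup.eq_one_iff _).2
              (mem_subgroupOf.2 (by simpa [commutatorElement_def] using hcomm x x.2 y y.2)) }
  let c : V →* MulAut B := (B.normalizerMonoidHom).comp (inclusion hB)
  have hc : ∀ (v : V) (b : B), ((c v b : B) : G) = v * b * (v : G)⁻¹ := fun v b => rfl
  have hmap : ∀ v : V, (B0.subgroupOf B).map (c v).toMonoidHom = B0.subgroupOf B := by
    intro v
    ext x
    constructor
    · rintro ⟨y, hy, rfl⟩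
      show ((c v y : B) : G) ∈ B0
      rw [hc]
      exact conjMem hB0 v.2 hy
    · intro hx
      refine ⟨c v⁻¹ x, ?_, ?_⟩
      · show ((c v⁻¹ x : B) : G) ∈ B0
        rw [hc]
        exact conjMem hB0 (v⁻¹).2 hx
      · show c v (c v⁻¹ x) = x
        rw [← MulAut.mul_apply, ← map_mul, mul_inv_cancel, map_one, MulAut.one_apply]
  let φ : V →* MulAut (B ⧸ B0.subgroupOf B) :=
    { toFun := fun v => QuotientGroup.congr _ _ (c v) (hmap v)
      map_one' := MulEquiv.ext fun x => QuotientGroup.induction_on x fun z => by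
        show ((c 1 z : B) : B ⧸ B0.subgroupOf B) = z
        rw [map_one]; rfl
      map_mul' := fun v w => MulEquiv.ext fun x => QuotientGroup.induction_on x fun z => by
        show ((c (v * w) z : B) : B ⧸ B0.subgroupOf B) =
          ((c v (c w z) : B) : B ⧸ B0.subgroupOf B)
        rw [map_mul]; rfl }
  have hexp' : ∀ q : B ⧸ B0.subgroupOf B, q ^ r = 1 := fun q =>
    QuotientGroup.induction_on q fun x => by
      rw [← QuotientGroup.mk_pow, QuotientGroup.eq_one_iff]
      exact mem_subgroupOf.2 (by simpa using hexp x x.2)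
  refine ⟨U ⊓ φ.ker.map V.subtype, inf_le_left, normInf h.norm (norm_ker_map φ),
    h.ker_covers_mulAut hp2 hexp' hidx φ, fun k hk b hb => ?_⟩
  obtain ⟨k', hk', rfl⟩ := hk.2
  have h1 := DFunLike.congr_fun (MonoidHom.mem_ker.1 hk') (((⟨b, hb⟩ : B) : B ⧸ B0.subgroupOf B))
  have h2 : ((c k' ⟨b, hb⟩ : B) : B ⧸ B0.subgroupOf B) = ((⟨b, hb⟩ : B) : B ⧸ B0.subgroupOf B) := h1
  have h3 := mem_subgroupOf.1 (QuotientGroup.eq.1 h2.symm)
  simp only [Subgroup.coe_mul, Subgroup.coe_inv, hc] at h3
  have h4 := conjMem hBB0 hb h3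
  rw [commutatorElement_def]
  convert h4 using 1
  simp [mul_assoc]

/-- `r`-groups of rank at most two: the elements of order prime to `r` of a covering subgroup
centralise. -/
theorem covers_rank_two (h : IrrSec p V U0 U) (hp2 : p ≠ 2) {r : ℕ} [Fact r.Prime] (hr2 : r ≠ 2)
    {R : Subgroup G} (hR : IsPGroup r R) (hrk : Cfsg.PRankLE r 2 R)
    (hN : V ≤ normalizer (R : Set G)) :
    ∃ K : Subgroup G, K ≤ U ∧ V ≤ normalizer (K : Set G) ∧ U0 ⊔ K = U ∧
      ∀ k ∈ K, Nat.Coprime (orderOf k) r → k ∈ centralizer (R : Set G) := by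
  obtain ⟨T, ψ, hT, hidx, hker⟩ := RankTwo.exists_action hr2 hR hrk
  letI : CommGroup (T ⧸ frattini T) :=
    { mul_comm := fun a b => by
        induction a using QuotientGroup.induction_on with
        | H x =>
          induction b using QuotientGroup.induction_on with
          | H y =>
            rw [← QuotientGroup.mk_mul, ← QuotientGroup.mk_mul, QuotientGroup.eq]
            have h := PGroup.commutatorElement_mem_frattini hT y⁻¹ x⁻¹
            simpa [commutatorElement_def, mul_assoc] using h }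
  have hexp : ∀ v : T ⧸ frattini T, v ^ r = 1 := fun v =>
    QuotientGroup.induction_on v fun x => by
      rw [← QuotientGroup.mk_pow, QuotientGroup.eq_one_iff]
      exact PGroup.pow_mem_frattini hT x
  let c : V →* MulAut R := (R.normalizerMonoidHom).comp (inclusion hN)
  refine ⟨U ⊓ (ψ.comp c).ker.map V.subtype, inf_le_left, normInf h.norm (norm_ker_map _),
    h.ker_covers_mulAut hp2 hexp hidx (ψ.comp c), fun k hk hcop => ?_⟩
  obtain ⟨k', hk', rfl⟩ := hk.2
  have hck : c k' = 1 := by
    have hmem : c k' ∈ ψ.ker := hk'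
    have h1 : orderOf (⟨c k', hmem⟩ : ψ.ker) ∣ orderOf (k' : G) := by
      rw [Subgroup.orderOf_mk, orderOf_coe]
      exact orderOf_map_dvd c k'
    exact congrArg Subtype.val
      (PGroup.eq_one_of_pow_eq_one_coprime hker (x := (⟨c k', hmem⟩ : ψ.ker)) hcop
        (orderOf_dvd_iff_pow_eq_one.1 h1))
  rw [mem_centralizer_iff]
  intro x hx
  have h2 : ((c k' ⟨x, hx⟩ : R) : G) = x := by rw [hck]; rfl
  have h3 : (k' : G) * x * (k' : G)⁻¹ = x := h2
  exact (mul_inv_eq_iff_eq_mul.1 h3).symm

end IrrSec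

end Cfsg.Agent.QTXi
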