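/-
Rank two `p`-groups: the subgroup `Ω₁(Z₂)` and automorphisms inner modulo the centre.
-/
import Cfsg.Agent.Lib.RankTwo.Narrow
import Cfsg.Agent.Lib.RankTwo.Auto
import Cfsg.Agent.Lib.PGroup.UniqueOrderP
import Cfsg.Agent.Lib.PGroup.NormalAbelian

set_option autoImplicit false

namespace Cfsg.Agent.QTXi

open Subgroup
open scoped commutatorElement

variable {G : Type*} [Group G] [Finite G] {p : ℕ} [hp : Fact p.Prime]

omit [Finite G] hp in
theorem prankLE_sub {k : ℕ} (h : Cfsg.PRankLE p k G) (H : Subgroup G) : Cfsg.PRankLE p k H := by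
  intro A hA hAe
  haveI := hA
  have := h (A.map H.subtype) (Subgroup.map_isMulCommutative _ _) (by
    rintro _ ⟨a, ha, rfl⟩
    exact congrArg Subtype.val (hAe a ha))
  rwa [Subgroup.card_map_of_injective H.subtype_injective] at this

/-- In rank two an element of order `p` centralising an elementary group of order `p ^ 2` lies in
it. -/
theorem mem_of_commutes (hrk : Cfsg.PRankLE p 2 G) {E : Subgroup G} (hE : Nat.card E = p ^ 2)
    (hc : ∀ u ∈ E, ∀ v ∈ E, u * v = v * u) (he : ∀ u ∈ E, u ^ p = 1) {a : G} (ha : a ^ p = 1)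
    (hac : ∀ u ∈ E, u * a = a * u) : a ∈ E := by
  set A := closure ((E : Set G) ∪ {a}) with hA
  have hcl : ∀ u ∈ ((E : Set G) ∪ {a}), ∀ v ∈ ((E : Set G) ∪ {a}), u * v = v * u := by
    intro u hu v hv
    rcases hu with hu | hu <;> rcases hv with hv | hv
    · exact hc u hu v hv
    · rw [Set.mem_singleton_iff.1 hv]; exact hac u hu
    · rw [Set.mem_singleton_iff.1 hu]; exact (hac v hv).symm
    · rw [Set.mem_singleton_iff.1 hu, Set.mem_singleton_iff.1 hv]
  haveI hAm : IsMulCommutative A := Subgroup.isMulCommutative_closure hcl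
  have hAe : ∀ u ∈ A, u ^ p = 1 := by
    intro u hu
    induction hu using closure_induction with
    | mem u hu =>
      rcases hu with hu | hu
      · exact he u hu
      · rw [Set.mem_singleton_iff.1 hu]; exact ha
    | one => exact one_pow p
    | mul u v hu hv hup hvp =>
      have := congrArg Subtype.val (mul_comm' (⟨u, hu⟩ : A) (⟨v, hv⟩ : A))
      rw [Commute.mul_pow this, hup, hvp, one_mul]
    | inv u _ hup => rw [inv_pow, hup, inv_one]
  have heq : E = A := eq_of_le_of_card_ge (fun u hu => subset_closure (Or.inl hu))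
    (hE ▸ hrk A hAm hAe)
  exact heq.ge (subset_closure (Or.inr rfl))

/-- The subgroup `T = Ω₁(Z₂(P))` of a noncyclic `p`-group of rank two, with an elementary subgroup
of order `p ^ 2` in it. -/
theorem exists_omegaTwo (hp2 : p ≠ 2) (hrk : Cfsg.PRankLE p 2 G) {P : Subgroup G}
    (hP : IsPGroup p P) (hnc : ¬ IsCyclic P) :
    ∃ T E : Subgroup G, T ≤ P ∧ E ≤ T ∧ Nat.card E = p ^ 2 ∧ Nat.card T ≤ p ^ 3 ∧
      (∀ u ∈ E, ∀ v ∈ E, u * v = v * u) ∧ (∀ t ∈ T, t ^ p = 1) ∧
      (∀ t ∈ T, ∀ x ∈ P, ⁅t, x⁆ ∈ T ∧ ∀ y ∈ P, y * ⁅t, x⁆ = ⁅t, x⁆ * y) ∧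
      (∀ g ∈ normalizer (P : Set G), g ∈ normalizer (T : Set G)) := by
  haveI := RankTwo.omegaZ2_characteristic (R := P) (p := p) hp2
  set T0 := RankTwo.omegaZ2 P p with hT0
  obtain ⟨A, -, hAn, hAe, hAc⟩ := PGroup.exists_normal_elementary_sq hp2 hP (S := (⊤ : Subgroup P))
    (fun h => by
      haveI := h
      exact hnc (isCyclic_of_surjective _ (topEquiv (G := P)).surjective))
  haveI := hAn
  have hAT : A ≤ T0 := by
    intro a ha
    rw [hT0, RankTwo.mem_omegaZ2 hp2, RankTwo.mem_upperCentralSeries_two]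
    refine ⟨fun g => ?_, hAe.2 a ha⟩
    by_cases hle : A ≤ center P
    · exact hle ((inferInstance : A.Normal).conj_mem a ha g |> fun h => by
        have h2 : g * a⁻¹ * g⁻¹ ∈ A := by
          have := inv_mem h
          simpa [mul_assoc] using this
        rw [commutatorElement_def]
        simpa [mul_assoc] using mul_mem ha h2)
    · have hAne : A ≠ ⊥ := by
        rintro rfl
        rw [Subgroup.card_bot] at hAc
        exact (Nat.one_lt_pow two_ne_zero hp.out.one_lt).ne hAc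
      have hM : A ⊓ center P ≠ ⊥ :=
        PGroup.inf_center_ne_bot hP hAne
      have hlt : A ⊓ center P < A := lt_of_le_of_ne inf_le_left fun e => hle (e.ge.trans inf_le_right)
      have hcard : Nat.card A ≤ p * Nat.card (A ⊓ center P : Subgroup P) := by
        rw [hAc, pow_two]
        refine Nat.mul_le_mul_left p ?_
        obtain ⟨k, hk⟩ := IsPGroup.iff_card.1 (hP.to_subgroup (A ⊓ center P))
        rw [hk]
        refine Nat.le_self_pow ?_ p
        rintro rfl
        exact hM (eq_bot_of_card_eq _ (by simpa using hk))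
      have h := PGroup.commutator_mem_of_card hP hlt hcard ha g
      rw [← commutatorElement_inv]
      exact inv_mem h.2
  refine ⟨T0.map P.subtype, A.map P.subtype, map_subtype_le _, map_mono hAT,
    by rw [card_map_of_injective P.subtype_injective, hAc], ?_, ?_, ?_, ?_, ?_⟩
  · rw [card_map_of_injective P.subtype_injective]
    exact (RankTwo.card_le_cube (fun x => Subtype.ext (((RankTwo.mem_omegaZ2 hp2).1 x.2).2))
      (prankLE_sub (prankLE_sub hrk P) T0)).1
  · rintro _ ⟨u, hu, rfl⟩ _ ⟨v, hv, rfl⟩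
    haveI := hAe.1
    exact congrArg (fun z : A => ((z : P) : G)) (mul_comm' (⟨u, hu⟩ : A) (⟨v, hv⟩ : A))
  · rintro _ ⟨t, ht, rfl⟩
    rw [← map_pow, ((RankTwo.mem_omegaZ2 hp2).1 ht).2, map_one]
  · rintro _ ⟨t, ht, rfl⟩ x hx
    have h1 := RankTwo.mem_omegaZ.1 (RankTwo.commutator_mem_omegaZ hp2 ht (⟨x, hx⟩ : P))
    have h2 : ⁅t, (⟨x, hx⟩ : P)⁆ ∈ T0 :=
      (RankTwo.mem_omegaZ2 hp2).2 ⟨RankTwo.mem_upperCentralSeries_two.2 fun g => by
        rw [commutatorElement_eq_one_iff_commute.2 (mem_center_iff.1 h1.1 g).symm]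
        exact one_mem _, h1.2⟩
    refine ⟨⟨_, h2, by simp [commutatorElement_def]⟩, fun y hy => ?_⟩
    have h3 := congrArg Subtype.val (mem_center_iff.1 h1.1 ⟨y, hy⟩)
    simpa [commutatorElement_def] using h3
  · intro g hg
    refine mem_normalizer_iff.2 fun k => ⟨fun hk => ?_, fun hk => ?_⟩
    · obtain ⟨t, ht, rfl⟩ := hk
      exact ⟨P.normalizerMonoidHom ⟨g, hg⟩ t, (PGroup.aut_mem_iff _ t).2 ht, rfl⟩
    · obtain ⟨t, ht, he⟩ := hk
      refine ⟨P.normalizerMonoidHom ⟨g⁻¹, inv_mem hg⟩ t, (PGroup.aut_mem_iff _ t).2 ht, ?_⟩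
      show g⁻¹ * (t : G) * g⁻¹⁻¹ = k
      have he' : (t : G) = g * k * g⁻¹ := he
      rw [he']
      group

omit [Finite G] in
/-- An element centralising a nonabelian group of order at most `p ^ 3` modulo a central subgroup of
order `p` is inner modulo the centraliser. -/
theorem exists_inner (hp' : p.Prime) {T Z : Subgroup G} [Finite T] (hZc : Nat.card Z = p)
    (hZ : ∀ z ∈ Z, ∀ t ∈ T, t * z = z * t) (hcomm : ∀ u ∈ T, ∀ v ∈ T, ⁅u, v⁆ ∈ Z)
    (hT : Nat.card T ≤ p ^ 3) (hTp : IsPGroup p T) (hna : ¬ ∀ u ∈ T, ∀ v ∈ T, u * v = v * u) {k : G}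
    (hk : ∀ t ∈ T, ⁅k, t⁆ ∈ Z) : ∃ t ∈ T, t⁻¹ * k ∈ centralizer (T : Set G) := by
  simp only [not_forall] at hna
  obtain ⟨a, ha, b, hb, hab⟩ := hna
  set z := ⁅a, b⁆ with hz
  have hz1 : z ≠ 1 := fun h => hab (commutatorElement_eq_one_iff_mul_comm.1 h)
  have hgen : ∀ w ∈ Z, ∃ m : ℤ, w = z ^ m := by
    intro w hw
    haveI : Finite Z := Nat.finite_of_card_ne_zero (hZc ▸ hp'.ne_zero)
    have := mem_zpowers_of_prime_card (G := Z) (p := p) hZc
      (g := ⟨z, hcomm a ha b hb⟩) (g' := ⟨w, hw⟩) (fun e => hz1 (congrArg Subtype.val e))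
    obtain ⟨m, hm⟩ := mem_zpowers_iff.1 this
    exact ⟨m, by simpa using (congrArg Subtype.val hm).symm⟩
  obtain ⟨m, hm⟩ := hgen _ (hk a ha)
  obtain ⟨n, hn⟩ := hgen _ (hk b hb)
  have hca : Commute a z := (hZ _ (hcomm a ha b hb) a ha)
  have hcb : Commute b z := (hZ _ (hcomm a ha b hb) b hb)
  have hb1 : ∀ j : ℤ, b ^ j * a * (b ^ j)⁻¹ = z ^ (-j) * a := by
    intro j
    have h1 : a * b ^ j * a⁻¹ = z ^ j * b ^ j := by
      rw [← conj_zpow, show a * b * a⁻¹ = z * b by rw [hz, commutatorElement_def]; simp [mul_assoc],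
        hcb.symm.mul_zpow]
    calc b ^ j * a * (b ^ j)⁻¹ = z ^ (-j) * (z ^ j * b ^ j) * a * (b ^ j)⁻¹ := by group
      _ = z ^ (-j) * (a * b ^ j * a⁻¹) * a * (b ^ j)⁻¹ := by rw [h1]
      _ = z ^ (-j) * a := by group
  have ha1 : ∀ j : ℤ, a ^ j * b * (a ^ j)⁻¹ = z ^ j * b := by
    intro j
    have h1 : b * a ^ j * b⁻¹ = z ^ (-j) * a ^ j := by
      rw [← conj_zpow, show b * a * b⁻¹ = z⁻¹ * a by
        rw [hz, commutatorElement_inv, commutatorElement_def]; simp [mul_assoc],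
        hca.symm.inv_left.mul_zpow, inv_zpow, zpow_neg]
    calc a ^ j * b * (a ^ j)⁻¹ = z ^ j * (z ^ (-j) * a ^ j) * b * (a ^ j)⁻¹ := by group
      _ = z ^ j * (b * a ^ j * b⁻¹) * b * (a ^ j)⁻¹ := by rw [h1]
      _ = z ^ j * b := by group
  set t := a ^ n * b ^ (-m) with ht
  have htT : t ∈ T := mul_mem (zpow_mem ha n) (zpow_mem hb _)
  refine ⟨t, htT, ?_⟩
  have hka : k * a * k⁻¹ = z ^ m * a := by
    rw [← hm, commutatorElement_def]; simp [mul_assoc]
  have hkb : k * b * k⁻¹ = z ^ n * b := by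
    rw [← hn, commutatorElement_def]; simp [mul_assoc]
  have hta : t * a * t⁻¹ = z ^ m * a := by
    rw [ht, show a ^ n * b ^ (-m) * a * (a ^ n * b ^ (-m))⁻¹ =
      a ^ n * (b ^ (-m) * a * (b ^ (-m))⁻¹) * (a ^ n)⁻¹ by group, hb1, neg_neg,
      ← mul_assoc, ((hca.zpow_left n).zpow_right m).eq, mul_assoc _ (a ^ n) a,
      (Commute.zpow_self a n).eq, mul_assoc, mul_inv_cancel_right]
  have htb : t * b * t⁻¹ = z ^ n * b := by
    rw [ht, show a ^ n * b ^ (-m) * b * (a ^ n * b ^ (-m))⁻¹ =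
      a ^ n * b * (a ^ n)⁻¹ by group, ha1]
  have htop : closure ({a, b} : Set G) = T := by
    refine eq_of_le_of_card_ge ((closure_le T).2 (by
      rintro x (rfl | rfl) <;> assumption)) ?_
    by_contra hlt
    set H := closure ({a, b} : Set G)
    haveI : Finite H := Finite.of_injective _ (inclusion_injective ((closure_le T).2 (by
      rintro x (rfl | rfl) <;> assumption) : H ≤ T))
    have hH : IsPGroup p H := hTp.to_le ((closure_le T).2 (by rintro x (rfl | rfl) <;> assumption))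
    haveI : Fact p.Prime := ⟨hp'⟩
    obtain ⟨j, hj⟩ := IsPGroup.iff_card.1 hH
    obtain ⟨i, hi⟩ := IsPGroup.iff_card.1 hTp
    rw [hi, hj, not_le, Nat.pow_lt_pow_iff_right hp'.one_lt] at hlt
    rw [hi, Nat.pow_le_pow_iff_right hp'.one_lt] at hT
    have hcH : IsMulCommutative H := by
      rcases Nat.lt_or_ge j 2 with h | h
      · haveI : IsCyclic H := isCyclic_of_card_dvd_prime (p := p) (by
          rw [hj]; exact (pow_dvd_pow p (by omega : j ≤ 1)).trans (pow_one p).dvd)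
        infer_instance
      · exact IsPGroup.isMulCommutative_of_card_eq_prime_sq (p := p) (by
          rw [hj, show j = 2 by omega])
    exact hab (congrArg Subtype.val (mul_comm'
      (⟨a, subset_closure (by simp)⟩ : H) (⟨b, subset_closure (by simp)⟩ : H)))
  rw [← htop, centralizer_closure, mem_centralizer_iff]
  rintro x (rfl | rfl)
  · have h : k * x * k⁻¹ = t * x * t⁻¹ := hka.trans hta.symm
    calc x * (t⁻¹ * k) = t⁻¹ * (t * x * t⁻¹) * k := by group
      _ = t⁻¹ * (k * x * k⁻¹) * k := by rw [h]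
      _ = t⁻¹ * k * x := by group
  · have h : k * x * k⁻¹ = t * x * t⁻¹ := hkb.trans htb.symm
    calc x * (t⁻¹ * k) = t⁻¹ * (t * x * t⁻¹) * k := by group
      _ = t⁻¹ * (k * x * k⁻¹) * k := by rw [h]
      _ = t⁻¹ * k * x := by group

end Cfsg.Agent.QTXi
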