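/-
Rank two: fixed elements from coverings, and `p`-nilpotence when the elements of order `p` are
central in a Sylow subgroup and fixed by its normaliser.
-/
import Cfsg.Agent.Lib.QTXi.Sec
import Cfsg.Agent.Lib.Coprime.Invariant
import Cfsg.Agent.Lib.Coprime.PQ
import Cfsg.Agent.Lib.Transfer.Alperin
import Cfsg.Agent.Lib.PGroup.UniqueOrderP
import Cfsg.Prelude.Def_CaseTheorems

set_option autoImplicit false

namespace Cfsg.Agent.QTXi

open Subgroup
open scoped commutatorElement

variable {G : Type*} [Group G] [Finite G] {p : ℕ} [hp : Fact p.Prime]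

/-- If `y` of order prime to `p` centralises a `p`-group `D` modulo a subgroup with noncyclic
quotient, then it centralises all elements of order `p` centralising `D`. -/
theorem commute_of_covering (hp2 : p ≠ 2) (hrk : Cfsg.PRankLE p 2 G) {D D0 : Subgroup G}
    (hD : IsPGroup p D) (hle : D0 ≤ D) (hne : ∀ d ∈ D, D0 ⊔ zpowers d ≠ D) {y : G}
    (hyD : y ∈ normalizer (D : Set G)) (hy0 : y ∈ normalizer (D0 : Set G))
    (hy : Nat.Coprime (orderOf y) p) (htriv : ∀ d ∈ D, ⁅y, d⁆ ∈ D0) {a : G} (ha : a ^ p = 1)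
    (haD : ∀ d ∈ D, d * a = a * d) : a * y = y * a := by
  set A := zpowers y with hAdef
  have hAD : A ≤ normalizer (D : Set G) := zpowers_le.2 hyD
  have hcop : (Nat.card A).Coprime (Nat.card D) := by
    obtain ⟨k, hk⟩ := IsPGroup.iff_card.1 hD
    rw [Nat.card_zpowers, hk]
    exact hy.pow_right k
  have hsolv : Group.IsSolvable A ∨ Group.IsSolvable D := Or.inl inferInstance
  let S : Subgroup G :=
    { carrier := {g | g ∈ normalizer (D : Set G) ∧ g ∈ normalizer (D0 : Set G) ∧
        ∀ d ∈ D, ⁅g, d⁆ ∈ D0}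
      one_mem' := ⟨one_mem _, one_mem _, fun d _ => by simp⟩
      mul_mem' := fun {g h} hg hh => ⟨mul_mem hg.1 hh.1, mul_mem hg.2.1 hh.2.1, fun d hd => by
        have e : ⁅g * h, d⁆ = g * ⁅h, d⁆ * g⁻¹ * ⁅g, d⁆ := by
          simp only [commutatorElement_def]; group
        rw [e]
        exact mul_mem ((mem_normalizer_iff.1 hg.2.1 _).1 (hh.2.2 d hd)) (hg.2.2 d hd)⟩
      inv_mem' := fun {g} hg => ⟨inv_mem hg.1, inv_mem hg.2.1, fun d hd => by
        have he : g⁻¹ * d * g ∈ D := by
          have := (mem_normalizer_iff.1 (inv_mem hg.1) d).1 hd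
          simpa using this
        have h1 := inv_mem (hg.2.2 _ he)
        convert h1 using 1
        simp only [commutatorElement_def]
        group⟩ }
  have hAS : A ≤ S := zpowers_le.2 ⟨hyD, hy0, htriv⟩
  have hcom : ⁅D, A⁆ ≤ D0 := commutator_le.2 fun d hd g hg => by
    rw [← commutatorElement_inv]
    exact inv_mem ((hAS hg).2.2 d hd)
  have hcov : D0 ⊔ (D ⊓ centralizer (A : Set G)) = D := by
    refine le_antisymm (sup_le hle inf_le_left) ?_
    conv_lhs => rw [← Coprime.commutator_sup_centralizer hAD hcop hsolv]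
    exact sup_le (hcom.trans le_sup_left) le_sup_right
  set C := D ⊓ centralizer (A : Set G) with hCdef
  have hCp : IsPGroup p C := hD.to_le inf_le_left
  have hCn : ¬ IsCyclic (⊤ : Subgroup C) := by
    intro hcyc
    haveI : IsCyclic C := isCyclic_of_surjective _ (topEquiv (G := C)).surjective
    obtain ⟨c, hc⟩ := IsCyclic.exists_generator (α := C)
    refine hne c (inf_le_left (b := centralizer (A : Set G)) c.2) (le_antisymm
      (sup_le hle (zpowers_le.2 c.2.1)) ?_)
    conv_lhs => rw [← hcov]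
    refine sup_le le_sup_left fun x hx => mem_sup_right ?_
    obtain ⟨i, hi⟩ := mem_zpowers_iff.1 (hc ⟨x, hx⟩)
    exact mem_zpowers_iff.2 ⟨i, by simpa using congrArg Subtype.val hi⟩
  obtain ⟨E, -, -, hEe, hEc⟩ := PGroup.exists_normal_elementary_sq hp2 hCp hCn
  set E' := E.map C.subtype with hE'
  have hE'c : Nat.card E' = p ^ 2 := by rw [card_map_of_injective C.subtype_injective, hEc]
  have hE'le : E' ≤ C := map_subtype_le E
  haveI := hEe.1
  have hcomm : ∀ u ∈ E', ∀ v ∈ E', u * v = v * u := by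
    rintro _ ⟨u, hu, rfl⟩ _ ⟨v, hv, rfl⟩
    exact congrArg (fun z : E => ((z : C) : G))
      (mul_comm' (⟨u, hu⟩ : E) (⟨v, hv⟩ : E))
  have hexp : ∀ u ∈ E', u ^ p = 1 := by
    rintro _ ⟨u, hu, rfl⟩
    rw [← map_pow, hEe.2 u hu, map_one]
  set A' := closure ((E' : Set G) ∪ {a}) with hA'
  have hA'c : ∀ u ∈ ((E' : Set G) ∪ {a}), ∀ v ∈ ((E' : Set G) ∪ {a}), u * v = v * u := by
    intro u hu v hv
    rcases hu with hu | hu <;> rcases hv with hv | hv
    · exact hcomm u hu v hv
    · rw [Set.mem_singleton_iff.1 hv]; exact haD u (hE'le hu).1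
    · rw [Set.mem_singleton_iff.1 hu]; exact (haD v (hE'le hv).1).symm
    · rw [Set.mem_singleton_iff.1 hu, Set.mem_singleton_iff.1 hv]
  haveI hA'm : IsMulCommutative A' :=
    Subgroup.isMulCommutative_closure hA'c
  have hA'e : ∀ u ∈ A', u ^ p = 1 := by
    intro u hu
    induction hu using closure_induction with
    | mem u hu =>
      rcases hu with hu | hu
      · exact hexp u hu
      · rw [Set.mem_singleton_iff.1 hu]; exact ha
    | one => exact one_pow p
    | mul u v hu hv hup hvp =>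
      have := congrArg Subtype.val (mul_comm' (⟨u, hu⟩ : A') (⟨v, hv⟩ : A'))
      rw [Commute.mul_pow this, hup, hvp, one_mul]
    | inv u _ hup => rw [inv_pow, hup, inv_one]
  have heq : E' = A' := eq_of_le_of_card_ge (fun u hu => subset_closure (Or.inl hu))
    (hE'c ▸ hrk A' hA'm hA'e)
  have haC : a ∈ C := hE'le (heq.ge (subset_closure (Or.inr rfl)))
  exact (mem_centralizer_iff.1 haC.2 y (mem_zpowers y)).symm

/-- `p`-nilpotence from central elements of order `p` fixed by the Sylow normaliser. -/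
theorem hasNormalPComplement_of_roots (hp2 : p ≠ 2) (P : Sylow p G)
    (hc : ∀ x ∈ (P : Subgroup G), x ^ p = 1 → ∀ y ∈ (P : Subgroup G), y * x = x * y)
    (hfix : ∀ g ∈ normalizer ((P : Subgroup G) : Set G), Nat.Coprime (orderOf g) p →
      ∀ x ∈ (P : Subgroup G), x ^ p = 1 → g * x = x * g) :
    Cfsg.HasNormalPComplement p G := by
  refine Transfer.hasNormalPComplement_of_local P fun R hR _ n hn hcop => ?_
  have hRP : R ≤ (P : Subgroup G) := hR.1
  have hfixall : ∀ g ∈ normalizer ((P : Subgroup G) : Set G), ∀ x ∈ (P : Subgroup G), x ^ p = 1 →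
      g * x = x * g := by
    intro g hg x hx hxp
    obtain ⟨k, m, hm, hord⟩ : ∃ k m, ¬ p ∣ m ∧ orderOf g = p ^ k * m :=
      Nat.exists_eq_pow_mul_and_not_dvd (orderOf_pos g).ne' p hp.out.ne_one
    have hcopm : Nat.Coprime (p ^ k) m := Nat.Coprime.pow_left _ (hp.out.coprime_iff_not_dvd.2 hm)
    have h1 : Commute (g ^ p ^ k) x := by
      refine hfix _ (pow_mem hg _) ?_ x hx hxp
      rw [orderOf_pow' g (pow_ne_zero _ hp.out.ne_zero), hord, Nat.gcd_mul_right_left,
        Nat.mul_div_cancel_left _ (pow_pos hp.out.pos k)]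
      exact (hp.out.coprime_iff_not_dvd.2 hm).symm
    have h2 : Commute (g ^ m) x := by
      refine hc x hx hxp _ ?_
      have hpg : IsPGroup p (zpowers (g ^ m)) := by
        refine IsPGroup.of_card (n := k) ?_
        rw [Nat.card_zpowers, orderOf_pow' g (show m ≠ 0 from fun h => hm (by rw [h]; exact dvd_zero p)), hord,
          Nat.gcd_mul_left_left, Nat.mul_div_cancel _ (Nat.pos_of_ne_zero fun h => hm (by rw [h]; exact dvd_zero p))]
      have hle : zpowers (g ^ m) ≤ normalizer ((P : Subgroup G) : Set G) :=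
        zpowers_le.2 (pow_mem hg _)
      have hsup : IsPGroup p ((P : Subgroup G) ⊔ zpowers (g ^ m) : Subgroup G) := by
        rw [sup_comm]
        exact hpg.to_sup_of_normal_right' P.2 hle
      exact (P.is_maximal' hsup le_sup_left) ▸ (mem_sup_right (mem_zpowers (g ^ m)))
    have hbez : g = (g ^ p ^ k) ^ ((p ^ k).gcdA m) * (g ^ m) ^ ((p ^ k).gcdB m) := by
      rw [← zpow_natCast g (p ^ k), ← zpow_natCast g m, ← zpow_mul, ← zpow_mul, ← zpow_add,
        ← Nat.gcd_eq_gcd_ab, hcopm.gcd_eq_one]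
      simp
    rw [hbez]
    exact (h1.zpow_left _).mul_left (h2.zpow_left _)
  refine Coprime.le_centralizer_of_fixing_order_p p hp2 (P.2.to_le hRP) (zpowers_le.2 hn)
    (by rw [Nat.card_zpowers]; exact hcop) (fun x hx hxo => ?_) (mem_zpowers n)
  have hxp : x ^ p = 1 := hxo ▸ pow_orderOf_eq_one x
  have hxC : x ∈ centralizer ((P : Subgroup G) : Set G) :=
    mem_centralizer_iff.2 fun y hy => hc x (hRP hx) hxp y hy
  have hyR : n⁻¹ * x * n ∈ R := by
    have := (mem_normalizer_iff.1 (inv_mem hn) x).1 hx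
    simpa using this
  have hyp : (n⁻¹ * x * n) ^ p = 1 := by
    have h := conj_pow (i := p) (a := n⁻¹) (b := x)
    rw [inv_inv] at h
    rw [h, hxp]; simp
  have hyC : n⁻¹ * x * n ∈ centralizer ((P : Subgroup G) : Set G) :=
    mem_centralizer_iff.2 fun y hy => hc _ (hRP hyR) hyp y hy
  obtain ⟨g, hg, he⟩ := P.conj_eq_normalizer_conj_of_mem_centralizer x n hxC hyC
  have hgx := hfixall g hg x (hRP hx) hxp
  rw [mul_assoc g⁻¹ x g, ← hgx, inv_mul_cancel_left] at he
  have hnx : x * n = n * x := by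
    have := congrArg (n * ·) he
    simpa [mul_assoc] using this
  rw [mem_centralizer_iff]
  intro y hy
  obtain ⟨i, rfl⟩ := mem_zpowers_iff.1 hy
  exact ((show Commute n x from hnx.symm).zpow_left i).eq

/-- A perfect group in which the elements of order `p` are central has order prime to `p`. -/
theorem not_dvd_of_perfect_central (hp2 : p ≠ 2) (hperf : commutator G = ⊤)
    (hc : ∀ x : G, x ^ p = 1 → x ∈ center G) : ¬ p ∣ Nat.card G := by
  intro hdvd
  obtain ⟨P⟩ := (inferInstance : Nonempty (Sylow p G))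
  obtain ⟨Q, N, hN, hcompl⟩ := hasNormalPComplement_of_roots hp2 P
    (fun x _ hxp y _ => mem_center_iff.1 (hc x hxp) y)
    (fun g _ _ x _ hxp => mem_center_iff.1 (hc x hxp) g)
  haveI := hN
  have hcard : Nat.card (G ⧸ N) = Nat.card (Q : Subgroup G) := by
    rw [← index_eq_card, hcompl.symm.index_eq_card]
  have hQ : IsPGroup p (G ⧸ N) := by
    obtain ⟨k, hk⟩ := IsPGroup.iff_card.1 Q.2
    exact IsPGroup.of_card (hcard.trans hk)
  haveI : Group.IsNilpotent (G ⧸ N) := hQ.isNilpotent
  have hperfQ : commutator (G ⧸ N) = ⊤ := by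
    have h := Subgroup.map_commutator ⊤ ⊤ (QuotientGroup.mk' N)
    rw [← _root_.commutator_def, hperf, map_top_of_surjective _ (QuotientGroup.mk'_surjective N),
      ← _root_.commutator_def] at h
    exact h.symm
  have hsub : Subsingleton (G ⧸ N) := by
    by_contra hne
    haveI : Nontrivial (G ⧸ N) := not_subsingleton_iff_nontrivial.1 hne
    haveI : Group.IsSolvable (G ⧸ N) := inferInstance
    exact (IsSolvable.commutator_lt_top_of_nontrivial (G ⧸ N)).ne hperfQ
  have h1 : Nat.card (Q : Subgroup G) = 1 := hcard ▸ Nat.card_eq_one_iff_unique.2 ⟨hsub, inferInstance⟩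
  rw [Q.card_eq_multiplicity] at h1
  rcases Nat.pow_eq_one.1 h1 with h | h
  · exact hp.out.ne_one h
  · exact (hp.out.factorization_pos_of_dvd Nat.card_pos.ne' hdvd).ne' h

end Cfsg.Agent.QTXi
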