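/-
An automorphism of a `p`-group trivial on an irreducible quotient of order `p ^ 2` fixes the
elements of order `p` when these are central and at most `p ^ 2` in number.
-/
import Cfsg.Agent.Lib.PGroup.UniqueOrderP
import Cfsg.Agent.Lib.PGroup.Power

set_option autoImplicit false

namespace Cfsg.Agent.QTXi

open Subgroup
open scoped commutatorElement

universe u

variable {p : ℕ} [hp : Fact p.Prime]

/-- The subgroup of the `p`-th roots of unity when these are central. -/
def rootsOne {D : Type*} [Group D] (p : ℕ) (hc : ∀ x : D, x ^ p = 1 → x ∈ center D) :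
    Subgroup D where
  carrier := {x | x ^ p = 1}
  one_mem' := one_pow p
  mul_mem' {a b} ha hb := by
    show (a * b) ^ p = 1
    rw [Commute.mul_pow (mem_center_iff.1 (hc b hb) a), ha, hb, one_mul]
  inv_mem' {a} ha := by show a⁻¹ ^ p = 1; rw [inv_pow, ha, inv_one]

theorem mem_rootsOne {D : Type*} [Group D] {hc : ∀ x : D, x ^ p = 1 → x ∈ center D} {x : D} :
    x ∈ rootsOne p hc ↔ x ^ p = 1 := Iff.rfl

/-- If the elements of order `p` are central, commutators of `p`-th roots of them are killed by `p`. -/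
theorem commutator_pow_eq_one_of_roots {D : Type*} [Group D] [Finite D] (hp2 : p ≠ 2)
    (hD : IsPGroup p D) (hc : ∀ x : D, x ^ p = 1 → x ∈ center D) :
    ∀ y t : D, (y ^ p) ^ p = 1 → ⁅y, t⁆ ^ p = 1 := by
  suffices H : ∀ n : ℕ, ∀ K : Subgroup D, Nat.card K = n →
      ∀ y ∈ K, ∀ t ∈ K, (y ^ p) ^ p = 1 → ⁅y, t⁆ ^ p = 1 from
    fun y t h => H _ ⊤ rfl y (mem_top y) t (mem_top t) h
  intro n
  induction n using Nat.strong_induction_on with
  | _ n ih =>
    intro K hK y hy t ht hyp
    by_cases hcyc : zpowers y = K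
    · obtain ⟨i, rfl⟩ := mem_zpowers_iff.1 (hcyc.ge ht)
      rw [commutatorElement_eq_one_iff_commute.2 ((Commute.refl y).zpow_right i), one_pow]
    obtain ⟨M, hyM, hM⟩ := Finite.exists_le_maximal (α := Subgroup K)
      (p := fun M => M ≠ ⊤) (a := zpowers (⟨y, hy⟩ : K)) (by
        intro h
        apply hcyc
        have := congrArg (Subgroup.map K.subtype) h
        rwa [MonoidHom.map_zpowers, ← MonoidHom.range_eq_map, range_subtype] at this)
    have hcoatom : IsCoatom M := ⟨hM.prop, fun b hb => by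
      by_contra hne
      exact hb.not_ge (hM.2 hne hb.le)⟩
    haveI : Group.IsNilpotent K := (hD.to_subgroup K).isNilpotent
    haveI : M.Normal :=
      Subgroup.NormalizerCondition.normal_of_coatom M Group.normalizerCondition_of_isNilpotent hcoatom
    have hcard : Nat.card (M.map K.subtype) < n := by
      rw [← hK, card_map_of_injective K.subtype_injective]
      refine lt_of_le_of_ne (card_le_card_group M) fun e => hM.prop ?_
      exact eq_top_of_card_eq M e
    have hy' : t * y * t⁻¹ ∈ M.map K.subtype :=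
      ⟨⟨t, ht⟩ * ⟨y, hy⟩ * ⟨t, ht⟩⁻¹,
        (inferInstance : M.Normal).conj_mem _ (hyM (mem_zpowers _)) _, rfl⟩
    have h1 := ih _ hcard _ rfl (t * y * t⁻¹) hy' y ⟨⟨y, hy⟩, hyM (mem_zpowers _), rfl⟩ (by
      rw [conj_pow, conj_pow, hyp]; simp)
    have hcz := mem_center_iff.1 (hc _ h1)
    have hz : y ^ p ∈ center D := hc _ hyp
    -- `t * y * t⁻¹` and `y` have equal `p`-th powers
    have h2 : (t * y * t⁻¹) ^ p = y ^ p := by
      rw [conj_pow, mem_center_iff.1 hz t, mul_inv_cancel_right]
    have hk : ⁅t, y⁆ ^ p = 1 := by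
      have h4 : ⁅y, (t * y * t⁻¹)⁆ ^ p = 1 := by
        rw [← commutatorElement_inv, inv_pow, h1, inv_one]
      have hcz4 := mem_center_iff.1 (hc _ h4)
      have e : ⁅t, y⁆ = (t * y * t⁻¹) * y⁻¹ := commutatorElement_def t y
      rw [e]
      have hc5 : ⁅y⁻¹, t * y * t⁻¹⁆ ^ p = 1 ∧ ⁅y⁻¹, t * y * t⁻¹⁆ ∈ center D := by
        have e2 : ⁅y⁻¹, t * y * t⁻¹⁆ = (⁅y, t * y * t⁻¹⁆)⁻¹ := by
          have h5 : y⁻¹ * ⁅y, t * y * t⁻¹⁆ * y = ⁅y, t * y * t⁻¹⁆ := by
            rw [mul_assoc, ← hcz4 y, inv_mul_cancel_left]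
          rw [← h5]
          simp only [commutatorElement_def]
          group
        rw [e2]
        exact ⟨by rw [inv_pow, h4, inv_one], inv_mem (hc _ h4)⟩
      rw [PGroup.mul_pow_prime_eq hp.out hp2 (mem_center_iff.1 hc5.2 _) (mem_center_iff.1 hc5.2 _)
        hc5.1, h2, inv_pow, mul_inv_cancel]
    rw [← commutatorElement_inv, inv_pow, hk, inv_one]

private theorem fixRootsAux (hp2 : p ≠ 2) : ∀ n : ℕ, ∀ (D : Type u) [Group D] [Finite D],
    Nat.card D = n → IsPGroup p D → (∀ x : D, x ^ p = 1 → x ∈ center D) →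
    (∀ A : Subgroup D, (∀ a ∈ A, a ^ p = 1) → Nat.card A ≤ p ^ 2) →
    ∀ (D0 : Subgroup D) [D0.Normal], D0.index = p ^ 2 → (∀ x : D, x ^ p ∈ D0) →
    ∀ Γ : Set (MulAut D), (∀ γ ∈ Γ, ∀ x ∈ D0, γ x ∈ D0) →
    (∀ K : Subgroup D, D0 ≤ K → (∀ γ ∈ Γ, ∀ x ∈ K, γ x ∈ K) → K = D0 ∨ K = ⊤) →
    ∀ φ : MulAut D, (∀ x : D, x⁻¹ * φ x ∈ D0) → ∀ x : D, x ^ p = 1 → φ x = x := by
  intro n
  induction n using Nat.strong_induction_on with
  | _ n ih =>
    intro D _ _ hn hD hc hcard D0 _ hidx hexp Γ hinv hirr φ hφ
    set B := rootsOne p hc with hBdef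
    have hBc : B ≤ center D := fun x hx => hc x hx
    haveI hBn : B.Normal := ⟨fun x hx g => by
      rw [mem_center_iff.1 (hBc hx) g, mul_inv_cancel_right]; exact hx⟩
    have hBaut : ∀ γ : MulAut D, ∀ x ∈ B, γ x ∈ B := fun γ x hx => by
      rw [mem_rootsOne] at hx ⊢
      rw [← map_pow, hx, map_one]
    have hBcard : Nat.card B ≤ p ^ 2 := hcard B fun a ha => ha
    rcases hirr (D0 ⊔ B) le_sup_left (fun γ hγ => by
      intro x hx
      have : D0 ⊔ B ≤ (D0 ⊔ B).comap γ.toMonoidHom :=
        sup_le (fun y hy => mem_sup_left (hinv γ hγ y hy)) (fun y hy => mem_sup_right (hBaut γ y hy))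
      exact this hx) with hBD | hBD
    swap
    · have h1 : D0.relIndex B = p ^ 2 := by
        rw [← relIndex_sup_right, sup_comm, hBD, relIndex_top_right, hidx]
      have h2 := (D0.subgroupOf B).card_mul_index
      rw [show (D0.subgroupOf B).index = p ^ 2 from h1] at h2
      have h3 : Nat.card (D0.subgroupOf B) = 1 := by
        have h5 : 0 < Nat.card (D0.subgroupOf B) := Nat.card_pos
        have h6 : 0 < p ^ 2 := pow_pos hp.out.pos 2
        nlinarith
      have h4 : D0 = ⊥ := by
        by_contra hne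
        haveI : Nontrivial D0 := (nontrivial_iff_ne_bot D0).2 hne
        obtain ⟨k, hk0, hk⟩ := (IsPGroup.nontrivial_iff_card (hD.to_subgroup D0)).1 inferInstance
        obtain ⟨z, hz⟩ := exists_prime_orderOf_dvd_card' (G := D0) p (hk ▸ dvd_pow_self p hk0.ne')
        have hzB : (z : D) ∈ B := by
          rw [mem_rootsOne, ← SubgroupClass.coe_pow, ← hz, pow_orderOf_eq_one, OneMemClass.coe_one]
        have : (⟨z, hzB⟩ : B) ∈ (⊥ : Subgroup B) := (eq_bot_of_card_eq _ h3) ▸ mem_subgroupOf.2 z.2
        have he : (⟨z, hzB⟩ : B) = 1 := mem_bot.1 this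
        have hz1 : z = 1 := Subtype.ext (show (z : D) = 1 from congrArg Subtype.val he)
        rw [hz1, orderOf_one] at hz
        exact hp.out.ne_one hz.symm
      intro x _
      have h5 := hφ x
      rw [h4, mem_bot, inv_mul_eq_one] at h5
      exact h5.symm
    have hBD0 : B ≤ D0 := le_sup_right.trans hBD.le
    have hcomm : ∀ y t : D, (y ^ p) ∈ B → ⁅y, t⁆ ∈ B :=
      commutator_pow_eq_one_of_roots hp2 hD hc
    have hQc : ∀ q : D ⧸ B, q ^ p = 1 → q ∈ center (D ⧸ B) := fun q hq => by
      induction q using QuotientGroup.induction_on with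
      | H y =>
        refine mem_center_iff.2 fun q' => ?_
        induction q' using QuotientGroup.induction_on with
        | H t =>
          rw [← QuotientGroup.mk_pow, QuotientGroup.eq_one_iff] at hq
          symm
          rw [← commutatorElement_eq_one_iff_mul_comm, ← QuotientGroup.mk'_apply,
            ← QuotientGroup.mk'_apply, ← map_commutatorElement]
          exact (QuotientGroup.eq_one_iff _).2 (hcomm y t hq)
    set W := (rootsOne p hQc).comap (QuotientGroup.mk' B) with hWdef
    have hW : ∀ y : D, y ∈ W ↔ y ^ p ∈ B := fun y => by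
      rw [hWdef, mem_comap, mem_rootsOne, ← map_pow]
      exact QuotientGroup.eq_one_iff _
    let f : W →* D :=
      { toFun := fun y => (y : D) ^ p
        map_one' := one_pow p
        map_mul' := fun y z => by
          have h1 : ⁅(z : D), (y : D)⁆ ∈ B := hcomm _ _ ((hW z).1 z.2)
          exact PGroup.mul_pow_prime_eq hp.out hp2 (mem_center_iff.1 (hBc h1) _)
            (mem_center_iff.1 (hBc h1) _) h1 }
    let g : W →* D ⧸ B := (QuotientGroup.mk' B).comp W.subtype
    have hfg : f.ker = g.ker := by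
      ext y
      rw [MonoidHom.mem_ker, MonoidHom.mem_ker]
      exact (QuotientGroup.eq_one_iff (N := B) (y : D)).symm
    have hgr : g.range = rootsOne p hQc := by
      ext q
      constructor
      · rintro ⟨y, rfl⟩; exact y.2
      · intro hq
        induction q using QuotientGroup.induction_on with
        | H y => exact ⟨⟨y, hq⟩, rfl⟩
    have hfB : f.range ≤ B := by
      rintro _ ⟨y, rfl⟩
      exact (hW y).1 y.2
    have hcardΩ : Nat.card (rootsOne p hQc) = Nat.card f.range := by
      rw [← hgr, ← index_ker, ← index_ker, hfg]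
    by_cases hI : f.range = B
    · have hlt : Nat.card (D ⧸ B) < n := by
        rw [← hn]
        have h1 := card_mul_index B
        have h2 : 1 < Nat.card B := by
          by_contra h3
          have hb : B = ⊥ := eq_bot_of_card_le B (not_lt.1 h3)
          have hDn : Nontrivial D := by
            rw [← Finite.one_lt_card_iff_nontrivial]
            calc 1 < p ^ 2 := Nat.one_lt_pow two_ne_zero hp.out.one_lt
              _ ≤ Nat.card D := hidx ▸ Nat.le_of_dvd Nat.card_pos (index_dvd_card D0)
          obtain ⟨k, hk0, hk⟩ := (IsPGroup.nontrivial_iff_card hD).1 hDn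
          obtain ⟨z, hz⟩ := exists_prime_orderOf_dvd_card' (G := D) p (hk ▸ dvd_pow_self p hk0.ne')
          have : z ∈ B := by rw [mem_rootsOne, ← hz, pow_orderOf_eq_one]
          rw [hb, mem_bot] at this
          rw [this, orderOf_one] at hz
          exact hp.out.ne_one hz.symm
        have h4 : 0 < B.index := Nat.pos_of_ne_zero B.index_ne_zero_of_finite
        rw [← h1, ← index_eq_card]
        nlinarith
      have hA : ∀ A : Subgroup (D ⧸ B), (∀ a ∈ A, a ^ p = 1) → Nat.card A ≤ p ^ 2 := fun A hA => by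
        refine le_trans (card_le_of_le (K := rootsOne p hQc) hA) ?_
        rw [hcardΩ, hI]; exact hBcard
      let bar : MulAut D → MulAut (D ⧸ B) := fun γ => QuotientGroup.congr B B γ (by
        ext x
        refine ⟨?_, fun hx => ⟨γ.symm x, hBaut γ.symm x hx, γ.apply_symm_apply x⟩⟩
        rintro ⟨y, hy, rfl⟩
        exact hBaut γ y hy)
      have hbar : ∀ (γ : MulAut D) (x : D), bar γ (x : D ⧸ B) = (γ x : D) := fun γ x => rfl
      haveI : (D0.map (QuotientGroup.mk' B)).Normal :=
        (inferInstance : D0.Normal).map _ (QuotientGroup.mk'_surjective B)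
      have hidx' : (D0.map (QuotientGroup.mk' B)).index = p ^ 2 := by
        rw [index_map_eq _ (QuotientGroup.mk'_surjective B) (by
          rw [QuotientGroup.ker_mk']; exact hBD0), hidx]
      have hfix := ih _ hlt (D ⧸ B) rfl (hD.to_quotient B) hQc hA
        (D0.map (QuotientGroup.mk' B)) hidx'
        (fun q => QuotientGroup.induction_on q fun y => ⟨y ^ p, hexp y, by simp⟩)
        (bar '' Γ)
        (by
          rintro _ ⟨γ, hγ, rfl⟩ _ ⟨y, hy, rfl⟩
          exact ⟨γ y, hinv γ hγ y hy, (hbar γ y).symm⟩)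
        (fun K hK1 hK2 => by
          rcases hirr (K.comap (QuotientGroup.mk' B))
              (map_le_iff_le_comap.1 hK1) (fun γ hγ x hx => by
                have := hK2 _ ⟨γ, hγ, rfl⟩ _ hx
                exact this) with e | e
          · left
            rw [← e, map_comap_eq_self_of_surjective (QuotientGroup.mk'_surjective B)]
          · right
            rw [← map_comap_eq_self_of_surjective (QuotientGroup.mk'_surjective B) K, e,
              map_top_of_surjective _ (QuotientGroup.mk'_surjective B)])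
        (bar φ) (fun q => QuotientGroup.induction_on q fun y => ⟨_, hφ y, by simp [hbar]⟩)
      intro x hx
      obtain ⟨⟨y, hy⟩, rfl⟩ := hI.ge (mem_rootsOne.2 hx : x ∈ B)
      show φ (y ^ p) = y ^ p
      have h1 := hfix (y : D ⧸ B) (by
        rw [← QuotientGroup.mk_pow]; exact (QuotientGroup.eq_one_iff _).2 ((hW y).1 hy))
      have h2 : y⁻¹ * φ y ∈ B := QuotientGroup.eq.1 h1.symm
      have h3 : φ y = y * (y⁻¹ * φ y) := (mul_inv_cancel_left _ _).symm
      rw [map_pow, h3, Commute.mul_pow (mem_center_iff.1 (hBc h2) y), mem_rootsOne.1 h2, mul_one]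
    · exfalso
      have hlt : Nat.card f.range ≤ p := by
        obtain ⟨k, hk2, hk⟩ : ∃ k ≤ 2, Nat.card B = p ^ k := by
          obtain ⟨k, hk⟩ := IsPGroup.iff_card.1 (hD.to_subgroup B)
          exact ⟨k, (Nat.pow_le_pow_iff_right hp.out.one_lt).1 (hk ▸ hBcard), hk⟩
        obtain ⟨j, hj, hje⟩ := (Nat.dvd_prime_pow hp.out).1 (hk ▸ card_dvd_of_le hfB)
        have hjk : j ≠ k := fun e => hI (eq_of_le_of_card_ge hfB (by rw [hk, hje, e]))
        rw [hje]
        calc p ^ j ≤ p ^ 1 := Nat.pow_le_pow_right hp.out.pos (by omega)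
          _ = p := pow_one p
      have huniq : ∀ x y : D ⧸ B, orderOf x = p → y ^ p = 1 → y ∈ zpowers x := fun x y hx hy => by
        have hle : zpowers x ≤ rootsOne p hQc := zpowers_le.2 (by
          rw [mem_rootsOne, ← hx, pow_orderOf_eq_one])
        have he := eq_of_le_of_card_ge hle (by rw [Nat.card_zpowers, hx, hcardΩ]; exact hlt)
        exact he.ge hy
      rcases PGroup.unique_order_p_cases (hD.to_quotient B) huniq with hcyc | ⟨h2, -⟩
      · obtain ⟨g0, hg0⟩ := IsCyclic.exists_generator (α := D ⧸ B)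
        induction g0 using QuotientGroup.induction_on with
        | H g1 =>
          have hle : ⊤ ≤ D0 ⊔ zpowers g1 := fun x _ => by
            obtain ⟨i, hi⟩ := mem_zpowers_iff.1 (hg0 (x : D ⧸ B))
            rw [← QuotientGroup.mk_zpow] at hi
            have hm := mul_mem (mem_sup_right (S := D0) (zpow_mem (mem_zpowers g1) i))
              (mem_sup_left (T := zpowers g1) (hBD0 (QuotientGroup.eq.1 hi)))
            simpa using hm
          have h1 : ∀ q : D ⧸ D0, q ∈ zpowers (g1 : D ⧸ D0) := fun q =>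
            QuotientGroup.induction_on q fun x => by
              have hx : D0 ⊔ zpowers g1 ≤ (zpowers (g1 : D ⧸ D0)).comap (QuotientGroup.mk' D0) :=
                sup_le (fun d hd => by
                  show ((d : D) : D ⧸ D0) ∈ zpowers (g1 : D ⧸ D0)
                  rw [(QuotientGroup.eq_one_iff d).2 hd]; exact one_mem _)
                  (zpowers_le.2 (mem_zpowers (g1 : D ⧸ D0)))
              exact hx (hle (mem_top x))
          have h3 := orderOf_eq_card_of_forall_mem_zpowers h1
          rw [← index_eq_card, hidx] at h3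
          have h4 : orderOf (g1 : D ⧸ D0) ∣ p := orderOf_dvd_of_pow_eq_one (by
            rw [← QuotientGroup.mk_pow]; exact (QuotientGroup.eq_one_iff _).2 (hexp g1))
          rw [h3] at h4
          have h5 := Nat.le_of_dvd hp.out.pos h4
          have h6 := hp.out.two_le
          nlinarith
      · exact hp2 h2

/-- An automorphism trivial on an irreducible quotient of order `p ^ 2` fixes the elements of order
`p` if they are central and form a group of order at most `p ^ 2`. -/
theorem fix_roots (hp2 : p ≠ 2) {D : Type u} [Group D] [Finite D] (hD : IsPGroup p D)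
    (hc : ∀ x : D, x ^ p = 1 → x ∈ center D)
    (hcard : ∀ A : Subgroup D, (∀ a ∈ A, a ^ p = 1) → Nat.card A ≤ p ^ 2)
    (D0 : Subgroup D) [D0.Normal] (hidx : D0.index = p ^ 2) (hexp : ∀ x : D, x ^ p ∈ D0)
    (Γ : Set (MulAut D)) (hinv : ∀ γ ∈ Γ, ∀ x ∈ D0, γ x ∈ D0)
    (hirr : ∀ K : Subgroup D, D0 ≤ K → (∀ γ ∈ Γ, ∀ x ∈ K, γ x ∈ K) → K = D0 ∨ K = ⊤)
    (φ : MulAut D) (hφ : ∀ x : D, x⁻¹ * φ x ∈ D0) : ∀ x : D, x ^ p = 1 → φ x = x :=
  fixRootsAux hp2 _ D rfl hD hc hcard D0 hidx hexp Γ hinv hirr φ hφ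

end Cfsg.Agent.QTXi
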