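/-
The configuration for solvable uniqueness groups modulo the 2-core: a normal subgroup meeting
the section trivially is `p`-nilpotent.
-/
import Cfsg.Agent.Lib.QTXi.GLTwo
import Cfsg.Agent.Lib.QTXi.Power
import Cfsg.Agent.Lib.QTXi.Nilpotent
import Cfsg.Agent.Lib.QTXi.Inner

set_option autoImplicit false

namespace Cfsg.Agent.QTXi

open Subgroup
open scoped commutatorElement

variable {H : Type*} [Group H] [Finite H] {p : ℕ} [hp : Fact p.Prime]

/-- The configuration: `Y` is the image of a member of `Ξ` in a 2-local modulo its 2-core. -/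
structure Setup (p : ℕ) (S W Y0 Y : Subgroup H) : Prop where
  p2 : p ≠ 2
  core : Cfsg.pCore 2 H = ⊥
  sylow2 : IsPGroup 2 S ∧ ¬ 2 ∣ S.index
  rank : ∀ r : ℕ, r.Prime → r ≠ 2 → Cfsg.PRankLE r 2 H
  sec : IrrSec p (Y ⊔ S) Y0 Y
  W2 : IsPGroup 2 W
  W_le : W ≤ Y0
  W_norm : Y ⊔ S ≤ normalizer (W : Set H)
  gen : ∀ M : Subgroup H, W ≤ M → M ≤ Y → M ⊔ Y0 = Y → M = Y
  odd : closure {x : H | x ∈ Y ∧ Odd (orderOf x)} = Y
  str : (W.relIndex Y = p ^ 2 ∧ (∀ x ∈ Y, ∀ y ∈ Y, ⁅x, y⁆ ∈ W) ∧ ∀ x ∈ Y, x ^ p ∈ W) ∨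
    (W.relIndex Y = p ^ 3 ∧ ¬ ∀ x ∈ Y, ∀ y ∈ Y, ⁅x, y⁆ ∈ W)

omit [Finite H] in
theorem normCentralizer {V T : Subgroup H} (h : V ≤ normalizer (T : Set H)) :
    V ≤ normalizer (centralizer (T : Set H) : Set H) := leNormalizerOf fun v hv k hk => by
  rw [mem_centralizer_iff] at hk ⊢
  intro t ht
  have h1 : v⁻¹ * t * v ∈ T := by
    have := conjMem h (inv_mem hv) ht
    simpa using this
  have h2 := hk _ h1
  calc t * (v * k * v⁻¹) = v * (v⁻¹ * t * v * k) * v⁻¹ := by group
    _ = v * (k * (v⁻¹ * t * v)) * v⁻¹ := by rw [h2]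
    _ = v * k * v⁻¹ * t := by group

omit [Finite H] hp in
/-- The section carried along a normal subgroup meeting it trivially. -/
theorem IrrSec.sup_normal {V U0 U : Subgroup H} (h : IrrSec p V U0 U) (F : Subgroup H) [hF : F.Normal]
    (hUF : U ⊓ F ≤ U0) : IrrSec p (V ⊔ F) (U0 ⊔ F) (U ⊔ F) := by
  have hUn : U ≤ normalizer (U0 : Set H) := h.le_amb.trans h.norm₀
  have hmeet : (U0 ⊔ F) ⊓ U = U0 := by
    refine le_antisymm (fun x hx => ?_) (le_inf le_sup_left h.le)
    obtain ⟨hx1, hx2⟩ := hx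
    obtain ⟨a, ha, f, hf, rfl⟩ := mem_sup_of_normal_right.1 hx1
    refine mul_mem ha (hUF ⟨?_, hf⟩)
    simpa using U.mul_mem (U.inv_mem (h.le ha)) hx2
  have hFn : ∀ K : Subgroup H, K ≤ normalizer (F : Set H) := fun K => normalizer_eq_top (H := F) ▸ le_top
  refine ⟨sup_le_sup_right h.le F, sup_le_sup_right h.le_amb F, ?_, ?_, ?_, fun K h1 h2 h3 => ?_⟩
  · exact sup_le (normSup h.norm (hFn V)) (le_sup_right.trans le_normalizer)
  · exact sup_le (normSup h.norm₀ (hFn V)) (le_sup_right.trans le_normalizer)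
  · haveI : ((U0 ⊔ F).subgroupOf (U ⊔ F)).Normal := normal_subgroupOf_of_le_normalizer
      (sup_le (normSup hUn (hFn U)) (le_sup_right.trans le_normalizer))
    have e := relIndex_sup_right (H := U.subgroupOf (U ⊔ F)) (K := (U0 ⊔ F).subgroupOf (U ⊔ F))
    rw [← subgroupOf_sup le_sup_left (sup_le_sup_right h.le F),
      relIndex_subgroupOf (sup_le le_sup_left (sup_le_sup_right h.le F)),
      relIndex_subgroupOf (le_sup_left : U ≤ U ⊔ F)] at e
    have e2 : U ⊔ (U0 ⊔ F) = U ⊔ F := by rw [← sup_assoc, sup_eq_left.2 h.le]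
    rw [e2] at e
    rw [e, ← inf_relIndex_right, hmeet, h.card]
  · have hK : K = (K ⊓ U) ⊔ F := by
      refine le_antisymm (fun x hx => ?_) (sup_le inf_le_left (le_sup_right.trans h1))
      obtain ⟨a, ha, f, hf, rfl⟩ := mem_sup_of_normal_right.1 (h2 hx)
      refine mul_mem (mem_sup_left ⟨?_, ha⟩) (mem_sup_right hf)
      simpa using K.mul_mem hx (K.inv_mem (h1 (mem_sup_right hf)))
    have hle : U0 ≤ K ⊓ U := le_inf (le_sup_left.trans h1) h.le
    rcases h.between (K ⊓ U) hle inf_le_right (normInf (le_sup_left.trans h3) h.norm) with e | e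
    · exact Or.inl (by rw [hK, e])
    · exact Or.inr (by rw [hK, e])

/-- The inherited section at the normaliser of a subgroup of a normal subgroup with Frattini. -/
theorem IrrSec.normalizer_step {V U0 U : Subgroup H} (h : IrrSec p V U0 U) {F P : Subgroup H}
    [F.Normal] (hFU : F ≤ U0) (hfr : normalizer (P : Set H) ⊔ F = ⊤) :
    IrrSec p (V ⊓ normalizer (P : Set H)) (U0 ⊓ (U ⊓ normalizer (P : Set H)))
      (U ⊓ normalizer (P : Set H)) := by
  have hdec : ∀ K : Subgroup H, F ≤ K → K ≤ (K ⊓ normalizer (P : Set H)) ⊔ F := fun K hK x hx => by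
    obtain ⟨n, hn, f, hf, rfl⟩ := mem_sup_of_normal_right.1 (hfr.ge (mem_top x))
    refine mul_mem (mem_sup_left ⟨?_, hn⟩) (mem_sup_right hf)
    simpa using K.mul_mem hx (K.inv_mem (hK hf))
  refine h.restrict inf_le_left ?_ inf_le_left (inf_le_inf_right _ h.le_amb)
    (normInf (inf_le_left.trans h.norm) (inf_le_right.trans le_normalizer))
    ((hdec V (hFU.trans (h.le.trans h.le_amb))).trans (sup_le_sup_left hFU _))
  refine le_antisymm (sup_le h.le inf_le_left) ((hdec U (hFU.trans h.le)).trans ?_)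
  exact sup_le le_sup_right (hFU.trans le_sup_left)

variable {S W Y0 Y : Subgroup H}

/-- A normal subgroup meeting `Y` inside `Y0` has a normal `p`-complement. -/
theorem Setup.hasNormalPComplement (h : Setup p S W Y0 Y) (F : Subgroup H) [hF : F.Normal]
    (hYF : Y ⊓ F ≤ Y0) : Cfsg.HasNormalPComplement p F := by
  have hp2 := h.p2
  have hrk : Cfsg.PRankLE p 2 H := h.rank p hp.out hp2
  obtain ⟨PF⟩ := (inferInstance : Nonempty (Sylow p F))
  set P := (PF : Subgroup F).map F.subtype with hPdef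
  have hPF : P ≤ F := map_subtype_le _
  have hPp : IsPGroup p P := PF.2.map _
  have hfr : normalizer (P : Set H) ⊔ F = ⊤ := Sylow.normalizer_sup_eq_top PF
  have sec0 := h.sec.sup_normal F hYF
  have sec1 := sec0.normalizer_step (le_sup_right : F ≤ Y0 ⊔ F) hfr
  set V' := (Y ⊔ S ⊔ F) ⊓ normalizer (P : Set H) with hV'
  set U := (Y ⊔ F) ⊓ normalizer (P : Set H) with hU
  set U0 := (Y0 ⊔ F) ⊓ U with hU0
  have hPU : P ≤ U := le_inf (hPF.trans le_sup_right) le_normalizer
  have hPU0 : P ≤ U0 := le_inf (hPF.trans le_sup_right) hPU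
  -- step one: the elements of order `p` of `P` are central
  have hroots : ∀ z ∈ P, z ^ p = 1 → ∀ x ∈ P, x * z = z * x := by
    by_cases hcyc : IsCyclic P
    · intro z hz _ x hx
      exact congrArg Subtype.val (mul_comm' (⟨x, hx⟩ : P) (⟨z, hz⟩ : P))
    obtain ⟨T, E, hTP, hET, hEc, hTc, hEcomm, hTexp, hTcom, hTn⟩ :=
      exists_omegaTwo hp2 hrk hPp hcyc
    have hV'T : V' ≤ normalizer (T : Set H) := fun v hv => hTn v hv.2
    have hU1n : V' ≤ normalizer ((U ⊓ centralizer (T : Set H) : Subgroup H) : Set H) :=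
      normInf sec1.norm (normCentralizer hV'T)
    have hTU : T ≤ U := hTP.trans hPU
    have hUV' : U ≤ V' := sec1.le_amb
    by_cases hTab : ∀ u ∈ T, ∀ v ∈ T, u * v = v * u
    · -- `T = E` is elementary of order `p ^ 2`
      have hTE : T ≤ E := fun t ht => mem_of_commutes hrk hEc hEcomm (fun u hu => hTexp u (hET hu))
        (hTexp t ht) (fun u hu => hTab u (hET hu) t ht)
      have hTeq : T = E := le_antisymm hTE hET
      obtain ⟨K, hKU, -, hKcov, hKc⟩ := sec1.covers_section hp2 (r := p) (B0 := ⊥) (B := T) bot_le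
        hV'T (leNormalizerOf fun v _ k hk => by simp [mem_bot.1 hk])
        (leNormalizerOf fun v _ k hk => by simp [mem_bot.1 hk])
        (by rw [relIndex_bot_left, hTeq, hEc]) (fun b hb => mem_bot.2 (hTexp b hb))
        (fun b hb c hc => mem_bot.2 (commutatorElement_eq_one_iff_mul_comm.2 (hTab b hb c hc)))
      set U1 := U ⊓ centralizer (T : Set H) with hU1
      have hU1cov : U0 ⊔ U1 = U := by
        refine le_antisymm (sup_le inf_le_right inf_le_left) ?_
        conv_lhs => rw [← hKcov]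
        refine sup_le le_sup_left (le_trans (le_inf hKU fun k hk => ?_) le_sup_right)
        exact mem_centralizer_iff.2 fun t ht =>
          (commutatorElement_eq_one_iff_mul_comm.1 (mem_bot.1 (hKc k hk t ht))).symm
      have sec2 : IrrSec p V' (U0 ⊓ U1) U1 := sec1.restrict inf_le_left hU1cov le_rfl
        (inf_le_left.trans hUV') hU1n le_sup_left
      obtain ⟨D, hDU1, hDp, -, hDmax, hDfr, sec3⟩ := sec2.exists_covering_pgroup
      have hDT : ∀ d ∈ D, ∀ t ∈ T, t * d = d * t := fun d hd t ht =>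
        mem_centralizer_iff.1 (hDU1 hd).2 t ht
      have hTD : T ≤ D := hDmax T (le_inf hTU fun t ht => mem_centralizer_iff.2 fun u hu => hTab u hu t ht)
        (hPp.to_le hTP) ((inf_le_left.trans hUV').trans hV'T)
      have hDroots : ∀ z ∈ D, z ^ p = 1 → z ∈ T := fun z hz hzp => hTeq ▸ mem_of_commutes hrk hEc
        hEcomm (fun u hu => hTexp u (hET hu)) hzp (fun u hu => hDT z hz u (hET hu))
      have hTcent : ∀ t ∈ T, ∀ x ∈ P, x * t = t * x := by
        intro t ht x hx
        obtain ⟨n, hn, c, hc, hxc⟩ := hDfr x (hUV' (hPU hx))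
        have hnU : n ∈ U := by
          rw [show n = x * c⁻¹ by rw [hxc, mul_inv_cancel_right]]
          exact mul_mem (hPU hx) (inv_mem hc.1)
        set D0 := ((U0 ⊓ U1) ⊓ D).subgroupOf D with hD0
        haveI : D0.Normal := normal_subgroupOf_of_le_normalizer (sec3.le_amb.trans sec3.norm₀)
        have hidx : D0.index = p ^ 2 := sec3.card
        let c0 : (V' ⊓ normalizer (D : Set H) : Subgroup H) →* MulAut D :=
          D.normalizerMonoidHom.comp (inclusion inf_le_right)
        have hc0 : ∀ v (d : D), ((c0 v d : D) : H) = v * d * (v : H)⁻¹ := fun v d => rfl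
        have hfix := fix_roots hp2 hDp
          (fun z hz => mem_center_iff.2 fun d => Subtype.ext ((hDT d d.2 z (hDroots z z.2
            (by simpa using congrArg Subtype.val hz))).symm))
          (fun A hA => by
            rw [← hEc, ← card_map_of_injective D.subtype_injective]
            refine card_le_of_le ?_
            rintro _ ⟨a, ha, rfl⟩
            exact hTE (hDroots a a.2 (by simpa using congrArg Subtype.val (hA a ha))))
          D0 hidx (fun d => mem_subgroupOf.2 (by simpa using sec3.pow_mem d d.2))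
          (Set.range c0)
          (by
            rintro _ ⟨v, rfl⟩ d hd
            rw [mem_subgroupOf] at hd ⊢
            rw [hc0]
            exact conjMem sec3.norm₀ v.2 hd)
          (fun K hK hKΓ => by
            rcases sec3.between (K.map D.subtype)
                (fun d hd => ⟨⟨d, hd.2⟩, hK (mem_subgroupOf.2 hd), rfl⟩) (map_subtype_le K)
                (leNormalizerOf fun v hv k hk => by
                  obtain ⟨k', hk', rfl⟩ := hk
                  exact ⟨_, hKΓ _ ⟨⟨v, hv⟩, rfl⟩ k' hk', rfl⟩) with e | e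
            · left
              apply le_antisymm _ hK
              intro k hk
              exact mem_subgroupOf.2 (e.le (mem_map_of_mem D.subtype hk))
            · right
              refine eq_top_iff.2 fun k _ => ?_
              obtain ⟨k', hk', he⟩ := e.ge k.2
              exact Subtype.ext he ▸ hk')
          (c0 ⟨n, hn⟩) (fun d => mem_subgroupOf.2 (by
            rw [Subgroup.coe_mul, Subgroup.coe_inv, hc0]
            have h1 : (d : H)⁻¹ * (n * d * n⁻¹) = ⁅(d : H)⁻¹, n⁆ := by
              rw [commutatorElement_def, inv_inv]; group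
            have h2 : (d : H)⁻¹ * (n * d * n⁻¹) ∈ U0 := by
              rw [h1]
              exact sec1.comm_mem (inv_mem (hDU1 d.2).1) hnU
            have h3 : (d : H)⁻¹ * (n * d * n⁻¹) ∈ D :=
              D.mul_mem (D.inv_mem d.2) (conjMem inf_le_right hn d.2)
            exact ⟨⟨h2, hDU1 h3⟩, h3⟩))
        have h4 := congrArg Subtype.val
          (hfix ⟨t, hTD ht⟩ (Subtype.ext (by simpa using hTexp t ht)))
        rw [hc0] at h4
        have h5 : t * c = c * t := mem_centralizer_iff.1 hc.2 t ht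
        calc x * t = n * (c * t) := by rw [hxc, mul_assoc]
          _ = n * (t * c) := by rw [h5]
          _ = (n * t * n⁻¹) * (n * c) := by group
          _ = t * x := by rw [show n * t * n⁻¹ = t from h4, hxc]
      intro z hz hzp x hx
      have hzT : z ∈ T := hTeq ▸ mem_of_commutes hrk hEc hEcomm (fun u hu => hTexp u (hET hu)) hzp
        (fun u hu => (hTcent u (hET hu) z hz).symm)
      exact hTcent z hzT x hx
    · -- `T` extraspecial of order `p ^ 3`: impossible
      exfalso
      set Z := T ⊓ centralizer (T : Set H) with hZ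
      have hZcent : ∀ z ∈ Z, ∀ t ∈ T, t * z = z * t := fun z hz t ht =>
        mem_centralizer_iff.1 hz.2 t ht
      have hTp : IsPGroup p T := hPp.to_le hTP
      have hZc : Nat.card Z = p := by
        have e : Nat.card Z = Nat.card (center T) := by
          have e2 : Z.subgroupOf T = center T := by
            ext u
            rw [mem_subgroupOf, mem_center_iff]
            refine ⟨fun hu v => Subtype.ext (hZcent _ hu v v.2), fun hu => ⟨u.2, ?_⟩⟩
            exact mem_centralizer_iff.2 fun v hv => congrArg Subtype.val (hu ⟨v, hv⟩)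
          rw [← e2, Nat.card_congr (subgroupOfEquivOfLe (inf_le_left : Z ≤ T)).toEquiv]
        obtain ⟨a, ha⟩ := IsPGroup.iff_card.1 hTp
        obtain ⟨b, hb⟩ := IsPGroup.iff_card.1 (hTp.to_subgroup (center T))
        have ha3 : a ≤ 3 := (Nat.pow_le_pow_iff_right hp.out.one_lt).1 (ha ▸ hTc)
        have hT1 : T ≠ ⊥ := fun e0 => hTab fun u hu v hv => by
          rw [e0, mem_bot] at hu hv
          rw [hu, hv]
        haveI : Nontrivial T := (nontrivial_iff_ne_bot T).2 hT1
        have hb0 : b ≠ 0 := fun e0 => by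
          have := hTp.center_nontrivial
          rw [e0, pow_zero] at hb
          exact absurd (eq_bot_of_card_eq _ hb) ((nontrivial_iff_ne_bot _).1 this)
        have hidx := card_mul_index (center T)
        rw [hb, ha] at hidx
        obtain ⟨c, hc3, hc⟩ := (Nat.dvd_prime_pow hp.out).1 ⟨p ^ b, by rw [mul_comm]; exact hidx.symm⟩
        have hc2 : 2 ≤ c := by
          by_contra hlt
          haveI : IsCyclic (T ⧸ center T) := isCyclic_of_card_dvd_prime (p := p) (by
            rw [← index_eq_card, hc]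
            exact (pow_dvd_pow p (by omega : c ≤ 1)).trans (pow_one p).dvd)
          have hcm := isMulCommutative_of_isCyclic_quotient_center_self T
          exact hTab fun u hu v hv =>
            congrArg Subtype.val (hcm.is_comm.comm (⟨u, hu⟩ : T) ⟨v, hv⟩)
        rw [hc, ← pow_add] at hidx
        have := Nat.pow_right_injective hp.out.two_le hidx
        rw [e, hb, show b = 1 by omega, pow_one]
      set U1 := U ⊓ centralizer (T : Set H) with hU1
      have hU1le : U1 ≤ U0 := by
        refine (le_inf inf_le_left le_rfl).trans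
          ((sec1.dichotomy hU1n).resolve_right fun hcov => ?_)
        have hcov' : U0 ⊔ U1 = U := by
          rw [inf_eq_right.2 (inf_le_left : U1 ≤ U)] at hcov; exact hcov
        have sec2 : IrrSec p V' (U0 ⊓ U1) U1 := sec1.restrict inf_le_left hcov' le_rfl
          (inf_le_left.trans hUV') hU1n le_sup_left
        obtain ⟨D, hDU1, hDp, hDcov, -⟩ := sec2.exists_covering_pgroup
        have huniq : ∀ x y : D, orderOf x = p → y ^ p = 1 → y ∈ zpowers x := by
          intro x y hx hy
          have hmem : ∀ u : D, u ^ p = 1 → (u : H) ∈ Z := fun u hu => by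
            have hu1 : (u : H) ∈ centralizer (T : Set H) := (hDU1 u.2).2
            exact ⟨hET (mem_of_commutes hrk hEc hEcomm (fun w hw => hTexp w (hET hw))
              (by simpa using congrArg Subtype.val hu)
              (fun w hw => mem_centralizer_iff.1 hu1 w (hET hw))), hu1⟩
          have h1 : zpowers (x : H) = Z := eq_of_le_of_card_ge
            (zpowers_le.2 (hmem x (hx ▸ pow_orderOf_eq_one x)))
            (by rw [hZc, Nat.card_zpowers, orderOf_coe, hx])
          obtain ⟨i, hi⟩ := mem_zpowers_iff.1 (h1.ge (hmem y hy))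
          exact mem_zpowers_iff.2 ⟨i, Subtype.ext (by simpa using hi)⟩
        rcases PGroup.unique_order_p_cases hDp huniq with hDc | ⟨h2, -⟩
        · obtain ⟨g, hg⟩ := IsCyclic.exists_generator (α := D)
          refine sec2.zpowers_ne (hDU1 g.2) (le_antisymm
            (sup_le inf_le_right (zpowers_le.2 (hDU1 g.2))) ?_)
          conv_lhs => rw [← hDcov]
          refine sup_le le_sup_left fun d hd => mem_sup_right ?_
          obtain ⟨i, hi⟩ := mem_zpowers_iff.1 (hg ⟨d, hd⟩)
          exact mem_zpowers_iff.2 ⟨i, by simpa using congrArg Subtype.val hi⟩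
        · exact hp2 h2
      have hTZ : T ≤ normalizer (Z : Set H) :=
        normInf le_normalizer (normCentralizer le_normalizer)
      have hcom : ∀ u ∈ T, ∀ v ∈ T, ⁅u, v⁆ ∈ Z := fun u hu v hv => by
        obtain ⟨h1, h2⟩ := hTcom u hu v (hTP hv)
        exact ⟨h1, mem_centralizer_iff.2 fun w hw => h2 w (hTP hw)⟩
      obtain ⟨K, hKU, -, hKcov, hKc⟩ := sec1.covers_section hp2 (r := p) (B0 := Z) (B := T)
        inf_le_left hV'T (normInf hV'T (normCentralizer hV'T)) hTZ (by
          have := (Z.subgroupOf T).card_mul_index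
          rw [Nat.card_congr (subgroupOfEquivOfLe (inf_le_left : Z ≤ T)).toEquiv, hZc] at this
          refine Nat.le_of_mul_le_mul_left ?_ hp.out.pos
          calc p * Z.relIndex T = Nat.card T := this
            _ ≤ p ^ 3 := hTc
            _ = p * p ^ 2 := by ring)
        (fun b hb => by rw [hTexp b hb]; exact one_mem _) hcom
      have hKle : K ≤ U0 := by
        intro k hk
        obtain ⟨t, ht, htk⟩ := exists_inner hp.out hZc hZcent hcom hTc hTp hTab (hKc k hk)
        have h1 : t⁻¹ * k ∈ U1 := ⟨U.mul_mem (U.inv_mem (hTU ht)) (hKU hk), htk⟩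
        have h2 := U0.mul_mem (hPU0 (hTP ht)) (hU1le h1)
        simpa using h2
      exact sec1.ne (by rw [← hKcov, sup_eq_left.2 hKle])
  -- step two: they are fixed by the normaliser
  set A := (rootsOne p (D := P) (fun z hz => mem_center_iff.2 fun x => Subtype.ext
    (hroots z z.2 (by simpa using congrArg Subtype.val hz) x x.2))).map P.subtype with hA
  have hAmem : ∀ a : H, a ∈ A ↔ a ∈ P ∧ a ^ p = 1 := fun a => by
    constructor
    · rintro ⟨z, hz, rfl⟩; exact ⟨z.2, by simpa using congrArg Subtype.val hz⟩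
    · rintro ⟨ha, hap⟩; exact ⟨⟨a, ha⟩, Subtype.ext (by simpa using hap), rfl⟩
  have hAc : ∀ a ∈ A, ∀ b ∈ A, a * b = b * a := fun a ha b hb =>
    (hroots b ((hAmem b).1 hb).1 ((hAmem b).1 hb).2 a ((hAmem a).1 ha).1)
  have hAcard : Nat.card A ≤ p ^ 2 :=
    hrk A ⟨⟨fun a b => Subtype.ext (hAc _ a.2 _ b.2)⟩⟩ fun a ha => ((hAmem a).1 ha).2
  have hV'A : V' ≤ normalizer (A : Set H) := leNormalizerOf fun v hv a ha => by
    rw [hAmem] at ha ⊢
    exact ⟨conjMem inf_le_right hv ha.1, by rw [conj_pow, ha.2]; simp⟩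
  obtain ⟨K, hKU, -, hKcov, hKc⟩ := sec1.covers_section hp2 (r := p) (B0 := ⊥) (B := A) bot_le
    hV'A (leNormalizerOf fun v _ k hk => by simp [mem_bot.1 hk])
    (leNormalizerOf fun v _ k hk => by simp [mem_bot.1 hk])
    (by rw [relIndex_bot_left]; exact hAcard) (fun b hb => mem_bot.2 ((hAmem b).1 hb).2)
    (fun b hb c hc => mem_bot.2 (commutatorElement_eq_one_iff_mul_comm.2 (hAc b hb c hc)))
  set U1 := U ⊓ centralizer (A : Set H) with hU1
  have hU1cov : U0 ⊔ U1 = U := by
    refine le_antisymm (sup_le inf_le_right inf_le_left) ?_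
    conv_lhs => rw [← hKcov]
    refine sup_le le_sup_left (le_trans (le_inf hKU fun k hk => ?_) le_sup_right)
    exact mem_centralizer_iff.2 fun t ht =>
      (commutatorElement_eq_one_iff_mul_comm.1 (mem_bot.1 (hKc k hk t ht))).symm
  have sec2 : IrrSec p V' (U0 ⊓ U1) U1 := sec1.restrict inf_le_left hU1cov le_rfl
    (inf_le_left.trans sec1.le_amb) (normInf sec1.norm (normCentralizer hV'A)) le_sup_left
  obtain ⟨D, hDU1, hDp, -, -, hDfr, sec3⟩ := sec2.exists_covering_pgroup
  refine hasNormalPComplement_of_roots hp2 PF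
    (fun x hx hxp y hy => Subtype.ext (hroots x (mem_map_of_mem _ hx)
      (by simpa using congrArg Subtype.val hxp) y (mem_map_of_mem _ hy)))
    (fun g hg hgcop z hz hzp => Subtype.ext ?_)
  have hgP : (g : H) ∈ normalizer (P : Set H) := le_normalizer_map (f := F.subtype) ⟨g, hg, rfl⟩
  have hgU : (g : H) ∈ U := ⟨mem_sup_right g.2, hgP⟩
  have hzA : (z : H) ∈ A := (hAmem _).2
    ⟨mem_map_of_mem _ hz, by simpa using congrArg Subtype.val hzp⟩
  obtain ⟨n, hn, c, hc, hgc⟩ := hDfr g (sec1.le_amb hgU)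
  have hnU : n ∈ U := by
    rw [show n = (g : H) * c⁻¹ by rw [hgc, mul_inv_cancel_right]]
    exact mul_mem hgU (inv_mem hc.1)
  have hagree : ∀ j : ℕ, ∀ a ∈ A, (g : H) ^ j * a * ((g : H) ^ j)⁻¹ = n ^ j * a * (n ^ j)⁻¹ := by
    intro j
    induction j with
    | zero => intro a _; simp
    | succ j ih =>
      intro a ha
      have hb : n ^ j * a * (n ^ j)⁻¹ ∈ A := conjMem hV'A (sec1.le_amb (pow_mem hnU j)) ha
      have hcb : c * (n ^ j * a * (n ^ j)⁻¹) = (n ^ j * a * (n ^ j)⁻¹) * c :=
        (mem_centralizer_iff.1 hc.2 _ hb).symm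
      calc (g : H) ^ (j + 1) * a * ((g : H) ^ (j + 1))⁻¹
          = g * ((g : H) ^ j * a * ((g : H) ^ j)⁻¹) * (g : H)⁻¹ := by rw [pow_succ']; group
        _ = n * (c * (n ^ j * a * (n ^ j)⁻¹)) * c⁻¹ * n⁻¹ := by rw [ih a ha, hgc]; group
        _ = n * (n ^ j * a * (n ^ j)⁻¹) * n⁻¹ := by rw [hcb]; group
        _ = n ^ (j + 1) * a * (n ^ (j + 1))⁻¹ := by rw [pow_succ']; group
  obtain ⟨k, m, hm, hord⟩ : ∃ k m, ¬ p ∣ m ∧ orderOf n = p ^ k * m :=
    Nat.exists_eq_pow_mul_and_not_dvd (orderOf_pos n).ne' p hp.out.ne_one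
  set y := n ^ p ^ k with hy
  have hycop : Nat.Coprime (orderOf y) p := by
    rw [hy, orderOf_pow' n (pow_ne_zero _ hp.out.ne_zero), hord, Nat.gcd_mul_right_left,
      Nat.mul_div_cancel_left _ (pow_pos hp.out.pos k)]
    exact (hp.out.coprime_iff_not_dvd.2 hm).symm
  have hyV : y ∈ V' ⊓ normalizer (D : Set H) := pow_mem hn _
  have hcomm := commute_of_covering hp2 hrk (D0 := (U0 ⊓ U1) ⊓ D) hDp inf_le_right
    (fun d hd => sec3.zpowers_ne hd) hyV.2 (sec3.norm₀ hyV) hycop
    (fun d hd => by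
      have h2 : ⁅y, d⁆ ∈ U0 := sec1.comm_mem (pow_mem hnU _) (hDU1 hd).1
      have h3 : ⁅y, d⁆ ∈ D := by
        rw [commutatorElement_def]
        exact D.mul_mem (conjMem inf_le_right hyV hd) (D.inv_mem hd)
      exact ⟨⟨h2, hDU1 h3⟩, h3⟩)
    ((hAmem _).1 hzA).2 (fun d hd => (mem_centralizer_iff.1 (hDU1 hd).2 _ hzA).symm)
  have h6 : (g : H) ^ p ^ k * z * ((g : H) ^ p ^ k)⁻¹ = z := by
    rw [hagree _ _ hzA, ← hy, ← hcomm, mul_inv_cancel_right]
  have h7 : Commute ((g : H) ^ p ^ k) (z : H) := mul_inv_eq_iff_eq_mul.1 h6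
  obtain ⟨i, hi⟩ := exists_pow_eq_self_of_coprime (x := (g : H)) (n := p ^ k) (by
    rw [orderOf_coe]
    exact (hgcop.pow_right k).symm)
  have h8 := h7.pow_left i
  rw [hi] at h8
  simpa using h8.eq

end Cfsg.Agent.QTXi
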