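/-
In the configuration `Setup` the subgroup `Y` lies in the generalized Fitting subgroup.
-/
import Cfsg.Agent.Lib.QTXi.Roots
import Cfsg.Agent.Lib.Components.GenFitting
import Cfsg.Agent.Lib.RankTwo.Derived

set_option autoImplicit false

namespace Cfsg.Agent.QTXi

open Subgroup
open scoped commutatorElement

variable {H : Type*} [Group H] [Finite H] {p : ℕ} [hp : Fact p.Prime]

omit [Finite H] hp in
/-- An element of order prime to `r` killed by an `r`-power map into `N` lies in `N`. -/
theorem mem_of_pow_coprime {r : ℕ} {N : Subgroup H} {x : H} (k : ℕ) (h : x ^ r ^ k ∈ N)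
    (hx : Nat.Coprime (orderOf x) r) : x ∈ N := by
  obtain ⟨i, hi⟩ := exists_pow_eq_self_of_coprime (x := x) (n := r ^ k) (hx.pow_right k).symm
  rw [← hi]
  exact pow_mem h i

/-- A perfect subgroup lies in every normal subgroup with `p`-group quotient. -/
theorem le_of_perfect_of_pgroup {N E : Subgroup H} [N.Normal] (hq : IsPGroup p (H ⧸ N))
    (hE : ⁅E, E⁆ = E) : E ≤ N := by
  intro x hx
  rw [← QuotientGroup.eq_one_iff]
  set M := E.map (QuotientGroup.mk' N) with hM
  haveI : Group.IsNilpotent M := (hq.to_subgroup M).isNilpotent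
  have hperf : ⁅M, M⁆ = M := by rw [hM, ← Subgroup.map_commutator, hE]
  by_contra hne
  haveI : Nontrivial M := (nontrivial_iff_ne_bot M).2 fun h =>
    hne (mem_bot.1 (h ▸ (mem_map_of_mem (QuotientGroup.mk' N) hx) : (x : H ⧸ N) ∈ (⊥ : Subgroup _)))
  refine (IsSolvable.commutator_lt_top_of_nontrivial M).ne ?_
  apply map_injective M.subtype_injective
  rw [_root_.commutator_def, Subgroup.map_commutator, ← MonoidHom.range_eq_map, range_subtype, hperf]

/-- A given Sylow subgroup covers a quotient of prime power order. -/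
theorem sylow_covers {N U : Subgroup H} {k : ℕ} (hle : N ≤ U) (hn : U ≤ normalizer (N : Set H))
    (hc : N.relIndex U = p ^ k) (P : Sylow p U) : N ⊔ (P : Subgroup U).map U.subtype = U := by
  haveI : (N.subgroupOf U).Normal := normal_subgroupOf_of_le_normalizer hn
  have h3 := Nat.eq_one_of_dvd_coprimes
    (Nat.Coprime.pow_left k (hp.out.coprime_iff_not_dvd.2 P.not_dvd_index))
    (by rw [← hc]; exact index_dvd_of_le le_sup_left)
    (index_dvd_of_le le_sup_right)
  have h4 := congrArg (Subgroup.map U.subtype) (index_eq_one.1 h3)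
  rw [Subgroup.map_sup, ← MonoidHom.range_eq_map, range_subtype, subgroupOf_map_subtype,
    inf_of_le_left hle] at h4
  exact h4

/-- If `J = A L` as sets then `|J : L| = |A : A ∩ L|`. -/
theorem relIndex_eq_of_prod {A L J : Subgroup H} (hA : A ≤ J)
    (h : ∀ x ∈ J, ∃ a ∈ A, ∃ l ∈ L, x = a * l) : L.relIndex J = L.relIndex A := by
  refine (Nat.card_congr (Equiv.ofBijective (quotientSubgroupOfEmbeddingOfLE L hA) ⟨?_, ?_⟩)).symm
  · exact Function.Embedding.injective _
  · intro q
    induction q using QuotientGroup.induction_on with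
    | H x =>
      obtain ⟨a, ha, l, hl, he⟩ := h x x.2
      refine ⟨((⟨a, ha⟩ : A) : A ⧸ L.subgroupOf A), ?_⟩
      rw [quotientSubgroupOfEmbeddingOfLE_apply_mk]
      refine QuotientGroup.eq.2 (mem_subgroupOf.2 ?_)
      simpa [he] using hl

variable {S W Y0 Y : Subgroup H}

theorem Setup.le_of_meet (h : Setup p S W Y0 Y) (N : Subgroup H) [N.Normal]
    (hm : Y0 ⊔ (Y ⊓ N) = Y) : Y ≤ N := by
  have hM : W ⊔ (Y ⊓ N) = Y := h.gen _ le_sup_left
    (sup_le (h.W_le.trans h.sec.le) inf_le_left) (by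
      refine le_antisymm (sup_le (sup_le (h.W_le.trans h.sec.le) inf_le_left) h.sec.le) ?_
      conv_lhs => rw [← hm]
      exact sup_le le_sup_right (le_sup_right.trans le_sup_left))
  conv_lhs => rw [← h.odd]
  rw [closure_le]
  rintro x ⟨hxY, hxo⟩
  rw [SetLike.mem_coe, ← QuotientGroup.eq_one_iff]
  have h1 : Y ≤ (W.map (QuotientGroup.mk' N)).comap (QuotientGroup.mk' N) := by
    conv_lhs => rw [← hM]
    refine sup_le (le_comap_map _ _) fun y hy => ?_
    rw [mem_comap, QuotientGroup.mk'_apply, (QuotientGroup.eq_one_iff y).2 hy.2]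
    exact one_mem _
  obtain ⟨w, hw, hwx⟩ := h1 hxY
  obtain ⟨k, hk⟩ := h.W2 ⟨w, hw⟩
  have h2 : ((x : H ⧸ N)) ^ 2 ^ k = 1 := by
    rw [show (x : H ⧸ N) = QuotientGroup.mk' N w from hwx.symm, ← map_pow,
      show w ^ 2 ^ k = 1 by simpa using congrArg Subtype.val hk, map_one]
  have h3 : (x : H ⧸ N) ^ orderOf x = 1 := by
    rw [← QuotientGroup.mk_pow, pow_orderOf_eq_one]; rfl
  rw [← orderOf_eq_one_iff]
  exact Nat.eq_one_of_dvd_coprimes (Nat.Coprime.pow_left k ((Nat.coprime_two_left).2 hxo))
    (orderOf_dvd_of_pow_eq_one h2) (orderOf_dvd_of_pow_eq_one h3)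

/-- The subgroup `Y` lies in the generalized Fitting subgroup. -/
theorem Setup.le_genFitting (h : Setup p S W Y0 Y) :
    Y ≤ Cfsg.generalizedFittingSubgroup H := by
  set F := Cfsg.generalizedFittingSubgroup H with hFdef
  rcases h.sec.dichotomy (K := F) (normalizer_eq_top (H := F) ▸ le_top) with hYF | hm
  swap
  · exact h.le_of_meet F hm
  exfalso
  have hp2 := h.p2
  have sec0 := h.sec.sup_normal F hYF
  set J := Y ⊔ F with hJ
  set J0 := Y0 ⊔ F with hJ0
  obtain ⟨Q, N, hN, hcompl⟩ := h.hasNormalPComplement F hYF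
  haveI := hN
  set N' := N.map F.subtype with hN'
  have hN'F : N' ≤ F := map_subtype_le _
  have hN'card : ¬ p ∣ Nat.card N' := by
    rw [card_map_of_injective F.subtype_injective, ← hcompl.index_eq_card]
    exact Q.not_dvd_index
  have hqF : IsPGroup p (F ⧸ N) := by
    obtain ⟨k, hk⟩ := IsPGroup.iff_card.1 Q.2
    exact IsPGroup.of_card (by rw [← index_eq_card, hcompl.symm.index_eq_card, hk])
  have hmem : ∀ x ∈ F, Nat.Coprime (orderOf x) p → x ∈ N' := by
    intro x hx hcop
    obtain ⟨k, hk⟩ := hqF ((⟨x, hx⟩ : F) : F ⧸ N)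
    rw [← QuotientGroup.mk_pow, QuotientGroup.eq_one_iff] at hk
    refine mem_of_pow_coprime k (N := N') ⟨_, hk, by simp⟩ hcop
  have hN'cop : ∀ x ∈ N', Nat.Coprime (orderOf x) p := fun x hx => by
    refine Nat.Coprime.coprime_dvd_left ?_ (hp.out.coprime_iff_not_dvd.2 hN'card).symm
    rw [← Subgroup.orderOf_mk (H := N') x hx]
    exact orderOf_dvd_natCard _
  haveI hN'n : N'.Normal := ⟨fun x hx g => hmem _
    ((inferInstance : F.Normal).conj_mem x (hN'F hx) g) (by
      rw [← MulAut.conj_apply, MulEquiv.orderOf_eq]; exact hN'cop x hx)⟩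
  set E := Cfsg.layer H with hE
  have hEF : E ≤ F := Components.layer_le_genFitting
  have hEN : E ≤ N' := by
    have h1 : E.subgroupOf F ≤ N := le_of_perfect_of_pgroup hqF (by
      apply map_injective F.subtype_injective
      rw [Subgroup.map_commutator, subgroupOf_map_subtype, inf_of_le_left hEF,
        Components.layer_perfect])
    intro x hx
    exact ⟨⟨x, hEF hx⟩, h1 hx, rfl⟩
  set P0 := Cfsg.pCore p H with hP0
  have hP0F : P0 ≤ F := (Cores.pCore_le_fittingSubgroup p).trans Components.fitting_le_genFitting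
  set O := RankTwo.offCore p H with hO
  have hOfit : O ≤ Cfsg.fittingSubgroup H := iSup_le fun q => by
    haveI : Fact ((q : Nat.Primes) : ℕ).Prime := ⟨q.1.2⟩
    exact Cores.pCore_le_fittingSubgroup _
  have hON : O ≤ N' := fun x hx => hmem x (Components.fitting_le_genFitting (hOfit hx)) (by
    refine Nat.Coprime.coprime_dvd_left ?_
      (hp.out.coprime_iff_not_dvd.2 (RankTwo.not_dvd_card_offCore (G := H) p)).symm
    rw [← Subgroup.orderOf_mk (H := O) x hx]
    exact orderOf_dvd_natCard _)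
  have hFdec : F ≤ E ⊔ (P0 ⊔ O) := sup_le_sup le_rfl (RankTwo.fitting_le p)
  have hFPN : F ≤ P0 ⊔ N' := hFdec.trans
    (sup_le (hEN.trans le_sup_right) (sup_le le_sup_left (hON.trans le_sup_right)))
  have hP0p : IsPGroup p P0 := Cores.isPGroup_pCore p H
  have hPNbot : P0 ⊓ N' = ⊥ := by
    refine (eq_bot_iff_forall _).2 fun x hx => ?_
    obtain ⟨k, hk⟩ := IsPGroup.iff_orderOf.1 hP0p ⟨x, hx.1⟩
    rw [orderOf_mk] at hk
    have h1 := hN'cop x hx.2
    rw [hk] at h1
    rcases Nat.eq_zero_or_pos k with hk0 | hk0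
    · rw [hk0, pow_zero] at hk; exact orderOf_eq_one_iff.1 hk
    · rw [Nat.coprime_pow_left_iff hk0, Nat.coprime_self] at h1
      exact absurd h1 hp.out.ne_one
  have hPN : P0 ≤ centralizer (N' : Set H) := by
    rw [← commutator_eq_bot_iff_le_centralizer, eq_bot_iff, ← hPNbot]
    exact commutator_le_inf P0 N'
  obtain ⟨PJ⟩ := (inferInstance : Nonempty (Sylow p J))
  set Qh := (PJ : Subgroup J).map J.subtype with hQh
  have hQhp : IsPGroup p Qh := PJ.2.map _
  have hQhJ : Qh ≤ J := map_subtype_le _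
  have hJn : J ≤ normalizer (J0 : Set H) := sec0.le_amb.trans sec0.norm₀
  have hQhcov : J0 ⊔ Qh = J := sylow_covers sec0.le hJn sec0.card PJ
  set C0 := N' ⊓ centralizer (Qh : Set H) with hC0
  have hodd : ∀ r : ℕ, r.Prime → r ≠ 2 → ¬ r ∣ C0.relIndex N' := by
    intro r hr hr2
    haveI : Fact r.Prime := ⟨hr⟩
    by_cases hrp : r = p
    · rw [hrp]
      exact fun hd => hN'card (hd.trans (relIndex_dvd_card _ _))
    obtain ⟨R0⟩ := (inferInstance : Nonempty (Sylow r N'))
    set R := (R0 : Subgroup N').map N'.subtype with hR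
    have hRN : R ≤ N' := map_subtype_le _
    have hRr : IsPGroup r R := R0.2.map _
    have hfr : normalizer (R : Set H) ⊔ N' = ⊤ := Sylow.normalizer_sup_eq_top R0
    have sec1 := sec0.normalizer_step (F := N') (hN'F.trans le_sup_right) hfr
    obtain ⟨K, hKU, hKn, hKcov, hKc⟩ := sec1.covers_rank_two hp2 hr2 hRr
      (prankLE_sub (h.rank r hr hr2) R) inf_le_right
    have sec2 := sec1.restrict hKU hKcov le_rfl (hKU.trans sec1.le_amb) hKn le_sup_left
    obtain ⟨D, hDK, hDp, hDcov⟩ :=
      exists_pgroup_covering sec2.le (sec2.le_amb.trans sec2.norm₀) sec2.card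
    have hDR : D ≤ centralizer (R : Set H) := fun d hd => hKc d (hDK hd) (by
      obtain ⟨k, hk⟩ := IsPGroup.iff_orderOf.1 hDp ⟨d, hd⟩
      rw [orderOf_mk] at hk
      rw [hk]
      exact Nat.Coprime.pow_left k ((Nat.coprime_primes hp.out hr).2 (Ne.symm hrp)))
    have hDJ : D ≤ J := hDK.trans (hKU.trans inf_le_left)
    have hcov : J0 ⊔ D = J := by
      refine le_antisymm (sup_le sec0.le hDJ) ?_
      have h1 : K ≤ J0 ⊔ D := by
        conv_lhs => rw [← hDcov]
        exact sup_le ((inf_le_left.trans inf_le_left).trans le_sup_left) le_sup_right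
      have h2 : J ⊓ normalizer (R : Set H) ≤ J0 ⊔ D := by
        conv_lhs => rw [← hKcov]
        exact sup_le (inf_le_left.trans le_sup_left) h1
      intro x hx
      obtain ⟨n, hn, f, hf, rfl⟩ := mem_sup_of_normal_right.1 (hfr.ge (mem_top x))
      refine mul_mem (h2 ⟨?_, hn⟩) (mem_sup_left (mem_sup_right (hN'F hf)))
      simpa using J.mul_mem hx (J.inv_mem (mem_sup_right (hN'F hf)))
    set X := D ⊔ P0 with hX
    have hXp : IsPGroup p X := hDp.to_sup_of_normal_right hP0p
    have hXR : X ≤ centralizer (R : Set H) :=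
      sup_le hDR (hPN.trans (centralizer_le (SetLike.coe_subset_coe.2 hRN)))
    have hXJ : X ≤ J := sup_le hDJ (hP0F.trans le_sup_right)
    -- `X` is a Sylow subgroup of `J`
    have hXidx : ¬ p ∣ X.relIndex J := by
      have hXL : X ⊔ N' = D ⊔ F := by
        refine le_antisymm (sup_le (sup_le le_sup_left (hP0F.trans le_sup_right))
          (hN'F.trans le_sup_right)) (sup_le (le_sup_left.trans le_sup_left) (hFPN.trans ?_))
        exact sup_le (le_sup_right.trans le_sup_left) le_sup_right
      have hbot : N' ⊓ X = ⊥ := by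
        refine (eq_bot_iff_forall _).2 fun x hx => ?_
        obtain ⟨k, hk⟩ := IsPGroup.iff_orderOf.1 hXp ⟨x, hx.2⟩
        rw [orderOf_mk] at hk
        have h1 := hN'cop x hx.1
        rw [hk] at h1
        rcases Nat.eq_zero_or_pos k with hk0 | hk0
        · rw [hk0, pow_zero] at hk; exact orderOf_eq_one_iff.1 hk
        · rw [Nat.coprime_pow_left_iff hk0, Nat.coprime_self] at h1
          exact absurd h1 hp.out.ne_one
      have hXF : X.relIndex (D ⊔ F) ∣ Nat.card N' := by
        rw [← hXL, relIndex_eq_of_prod (A := N') le_sup_right (fun x hx => by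
          rw [sup_comm] at hx
          obtain ⟨a, ha, l, hl, rfl⟩ := mem_sup_of_normal_left.1 hx
          exact ⟨a, ha, l, hl, rfl⟩)]
        exact (relIndex_dvd_card _ _)
      have hM : W ⊔ ((D ⊔ F) ⊓ Y) = Y := h.gen _ le_sup_left
        (sup_le (h.W_le.trans h.sec.le) inf_le_right) (by
          refine le_antisymm (sup_le (sup_le (h.W_le.trans h.sec.le) inf_le_right) h.sec.le) ?_
          intro y hy
          have hyJ : y ∈ (D ⊔ F) ⊔ Y0 := by
            have : J ≤ (D ⊔ F) ⊔ Y0 := hcov.ge.trans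
              (sup_le (sup_le le_sup_right (le_sup_right.trans le_sup_left))
                (le_sup_left.trans le_sup_left))
            exact this (mem_sup_left hy)
          have hn : D ⊔ F ≤ normalizer ((Y0 ⊔ F : Subgroup H) : Set H) :=
            (sup_le hDJ le_sup_right).trans hJn
          have hy' : y ∈ (((D ⊔ F) ⊔ (Y0 ⊔ F) : Subgroup H) : Set H) :=
            sup_le_sup_left le_sup_left (D ⊔ F) hyJ
          rw [coe_mul_of_left_le_normalizer_right _ _ hn, Set.mem_mul] at hy'
          obtain ⟨a, ha, b, hb, rfl⟩ := hy'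
          obtain ⟨y0, hy0, f, hf, rfl⟩ := mem_sup_of_normal_right.1 hb
          have haf : a * (y0 * f * y0⁻¹) ∈ D ⊔ F :=
            mul_mem ha (mem_sup_right ((inferInstance : F.Normal).conj_mem f hf y0))
          have e : a * (y0 * f) = a * (y0 * f * y0⁻¹) * y0 := by group
          rw [e] at hy ⊢
          refine mul_mem (mem_sup_left (mem_sup_right ⟨haf, ?_⟩)) (mem_sup_right hy0)
          simpa using Y.mul_mem hy (Y.inv_mem (h.sec.le hy0)))
      have hJL : (D ⊔ F).relIndex J ∣ Nat.card W := by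
        rw [relIndex_eq_of_prod (A := W) ((h.W_le.trans h.sec.le).trans le_sup_left) (fun x hx => by
          obtain ⟨y, hy, f, hf, rfl⟩ := mem_sup_of_normal_right.1 hx
          have hy' : y ∈ ((W ⊔ ((D ⊔ F) ⊓ Y) : Subgroup H) : Set H) := hM.ge hy
          rw [coe_mul_of_right_le_normalizer_left _ _
            (inf_le_right.trans (le_sup_left.trans h.W_norm)), Set.mem_mul] at hy'
          obtain ⟨w, hw, l, hl, rfl⟩ := hy'
          exact ⟨w, hw, l * f, mul_mem hl.1 (mem_sup_right hf), by group⟩)]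
        exact (relIndex_dvd_card _ _)
      intro hd
      rw [← relIndex_mul_relIndex X (D ⊔ F) J (hXL ▸ le_sup_left) (sup_le hDJ le_sup_right)] at hd
      rcases hp.out.dvd_mul.1 hd with hd1 | hd1
      · exact hN'card (hd1.trans hXF)
      · obtain ⟨k, hk⟩ := IsPGroup.iff_card.1 h.W2
        have := (Nat.prime_dvd_prime_iff_eq hp.out Nat.prime_two).1
          (hp.out.dvd_of_dvd_pow (hk ▸ hd1.trans hJL))
        exact hp2 this
    have hXS : IsPGroup p (X.subgroupOf J) := hXp.of_equiv (subgroupOfEquivOfLe hXJ).symm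
    obtain ⟨j, hj⟩ := MulAction.exists_smul_eq J (hXS.toSylow hXidx) PJ
    set g : H := (j : H) with hg
    have hgQ : ∀ q ∈ Qh, g⁻¹ * q * g ∈ X := by
      rintro _ ⟨q, hq, rfl⟩
      rw [← hj] at hq
      obtain ⟨x, hx, hxq⟩ := hq
      have hxq' : (q : H) = g * x * g⁻¹ := by rw [← hxq]; rfl
      rw [Subgroup.coe_subtype, hxq']
      simpa [mul_assoc] using (mem_subgroupOf.1 hx)
    have hR' : R.map (MulAut.conj g).toMonoidHom ≤ C0 := by
      rintro _ ⟨z, hz, rfl⟩
      refine ⟨hN'n.conj_mem z (hRN hz) g, mem_centralizer_iff.2 fun q hq => ?_⟩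
      have h1 := mem_centralizer_iff.1 (hXR (hgQ q hq)) z hz
      show q * (g * z * g⁻¹) = g * z * g⁻¹ * q
      calc q * (g * z * g⁻¹) = g * ((g⁻¹ * q * g) * z) * g⁻¹ := by group
        _ = g * (z * (g⁻¹ * q * g)) * g⁻¹ := by rw [h1]
        _ = g * z * g⁻¹ * q := by group
    intro hd
    have h1 : r ∣ (R.map (MulAut.conj g).toMonoidHom).relIndex N' :=
      hd.trans (relIndex_dvd_of_le_left N' hR')
    have e : N'.map (MulAut.conj g).toMonoidHom = N' := by
      ext x
      refine ⟨?_, fun hx => ⟨g⁻¹ * x * g, ?_, ?_⟩⟩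
      · rintro ⟨z, hz, rfl⟩; exact hN'n.conj_mem z hz g
      · have := hN'n.conj_mem x hx g⁻¹
        simpa using this
      · show g * (g⁻¹ * x * g) * g⁻¹ = x
        group
    rw [← e, relIndex_map_map_of_injective R N' (f := (MulAut.conj g).toMonoidHom)
      (MulAut.conj g).injective, hR, relIndex, subgroupOf,
      comap_map_eq_self_of_injective N'.subtype_injective] at h1
    exact R0.not_dvd_index h1
  -- `Qh` centralises the `q`-cores and the layer
  have hQO : O ≤ centralizer (Qh : Set H) := iSup_le fun q => by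
    haveI : Fact ((q : Nat.Primes) : ℕ).Prime := ⟨q.1.2⟩
    by_cases hq2 : ((q : Nat.Primes) : ℕ) = 2
    · rw [hq2, h.core]; exact bot_le
    set Oq := Cfsg.pCore ((q : Nat.Primes) : ℕ) H with hOq
    have hOqN : Oq ≤ N' := (le_iSup
      (fun q : {q : Nat.Primes // (q : ℕ) ≠ p} => Cfsg.pCore ((q : Nat.Primes) : ℕ) H) q).trans hON
    obtain ⟨k, hk⟩ := IsPGroup.iff_card.1 (Cores.isPGroup_pCore (G := H) ((q : Nat.Primes) : ℕ))
    have hd1 : C0.relIndex Oq ∣ ((q : Nat.Primes) : ℕ) ^ k := hk ▸ (relIndex_dvd_card _ _)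
    have hd2 : C0.relIndex Oq ∣ C0.relIndex N' := by
      rw [← relIndex_eq_of_prod (J := Oq ⊔ C0) le_sup_left (fun x hx => by
        obtain ⟨a, ha, l, hl, rfl⟩ := mem_sup_of_normal_left.1 hx
        exact ⟨a, ha, l, hl, rfl⟩)]
      exact Dvd.intro _ (relIndex_mul_relIndex C0 (Oq ⊔ C0) N' le_sup_right
        (sup_le hOqN inf_le_left))
    have h1 : C0.relIndex Oq = 1 := by
      obtain ⟨i, -, hi⟩ := (Nat.dvd_prime_pow q.1.2).1 hd1
      rcases Nat.eq_zero_or_pos i with hi0 | hi0
      · rw [hi, hi0, pow_zero]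
      · exact absurd ((dvd_pow_self _ (Nat.pos_iff_ne_zero.1 hi0)).trans (hi ▸ hd2))
          (hodd _ q.1.2 hq2)
    exact (relIndex_eq_one.1 h1).trans inf_le_right
  have hpE : ¬ p ∣ Nat.card E := fun hd => hN'card (hd.trans (card_dvd_of_le hEN))
  have hcop : (Nat.card Qh).Coprime (Nat.card E) := by
    obtain ⟨k, hk⟩ := IsPGroup.iff_card.1 hQhp
    rw [hk]
    exact Nat.Coprime.pow_left k (hp.out.coprime_iff_not_dvd.2 hpE)
  have hQE : E ≤ centralizer (Qh : Set H) := by
    haveI : Fact (Nat.Prime 2) := ⟨Nat.prime_two⟩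
    have hQn : Qh ≤ normalizer (E : Set H) := normalizer_eq_top (H := E) ▸ le_top
    haveI : Group.IsNilpotent Qh := hQhp.isNilpotent
    obtain ⟨S0, hS0⟩ := Coprime.exists_invariant_sylow hQn hcop (Or.inl inferInstance) 2
    set S1 := (S0 : Subgroup E).map E.subtype with hS1
    have hS1E : S1 ≤ E := map_subtype_le _
    set CE := E ⊓ C0 with hCE
    have hd1 : CE.relIndex E ∣ C0.relIndex N' := by
      rw [hCE, inf_relIndex_left, ← relIndex_eq_of_prod (J := E ⊔ C0) le_sup_left (fun x hx => by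
        obtain ⟨a, ha, l, hl, rfl⟩ := mem_sup_of_normal_left.1 hx
        exact ⟨a, ha, l, hl, rfl⟩)]
      exact Dvd.intro _ (relIndex_mul_relIndex C0 (E ⊔ C0) N' le_sup_right
        (sup_le hEN inf_le_left))
    have hpow : ∃ a, CE.relIndex E = 2 ^ a := by
      refine ⟨(CE.relIndex E).factorization 2, Nat.eq_pow_of_factorization_eq_single
        (index_ne_zero_of_finite (H := CE.subgroupOf E)) ?_⟩
      ext r
      by_cases hr2 : r = 2
      · subst hr2; simp
      rw [Finsupp.single_eq_of_ne hr2]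
      by_contra hne
      have hr : r.Prime := Nat.prime_of_mem_primeFactors
        (Nat.support_factorization _ ▸ Finsupp.mem_support_iff.2 hne)
      exact hodd r hr hr2 ((Nat.dvd_of_factorization_pos hne).trans hd1)
    obtain ⟨a, ha⟩ := hpow
    have hodd1 : ¬ 2 ∣ S1.relIndex E := by
      rw [hS1, relIndex, subgroupOf, comap_map_eq_self_of_injective E.subtype_injective]
      exact S0.not_dvd_index
    have hprod : ∀ e ∈ E, ∃ s ∈ S1, ∃ c ∈ CE, e = s * c := by
      have hle : CE.relIndex S1 ≤ CE.relIndex E := relIndex_le_of_le_right hS1E (index_ne_zero_of_finite (H := CE.subgroupOf E))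
      have h1 := relIndex_mul_relIndex (S1 ⊓ CE) S1 E inf_le_left hS1E
      have h2 := relIndex_mul_relIndex (S1 ⊓ CE) CE E inf_le_right inf_le_left
      rw [inf_relIndex_left, ← h2] at h1
      have hdvd : CE.relIndex E ∣ CE.relIndex S1 := by
        rw [ha] at h1 ⊢
        exact (Nat.Coprime.pow_left a (Nat.prime_two.coprime_iff_not_dvd.2 hodd1)).dvd_of_dvd_mul_right
          ⟨_, by rw [h1, mul_comm]⟩
      have heq : CE.relIndex S1 = CE.relIndex E :=
        le_antisymm hle (Nat.le_of_dvd (Nat.pos_of_ne_zero (index_ne_zero_of_finite (H := CE.subgroupOf S1))) hdvd)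
      have hbij := (Nat.bijective_iff_injective_and_card
        (quotientSubgroupOfEmbeddingOfLE CE hS1E)).2 ⟨Function.Embedding.injective _, heq⟩
      intro e he
      obtain ⟨q, hq⟩ := hbij.2 ((⟨e, he⟩ : E) : E ⧸ CE.subgroupOf E)
      induction q using QuotientGroup.induction_on with
      | H s =>
        rw [quotientSubgroupOfEmbeddingOfLE_apply_mk] at hq
        exact ⟨s, s.2, (s : H)⁻¹ * e, mem_subgroupOf.1 (QuotientGroup.eq.1 hq),
          (mul_inv_cancel_left _ _).symm⟩
    set M := ⁅E, Qh⁆ with hM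
    have hMS : M ≤ S1 := commutator_le.2 fun e he d hd => by
      obtain ⟨s, hs, c, hc, rfl⟩ := hprod e he
      have hcd : c * d = d * c := (mem_centralizer_iff.1 hc.2.2 d hd).symm
      have e1 : ⁅s * c, d⁆ = s * (d * s⁻¹ * d⁻¹) := by
        rw [commutatorElement_def]
        calc s * c * d * (s * c)⁻¹ * d⁻¹ = s * (c * d) * c⁻¹ * s⁻¹ * d⁻¹ := by group
          _ = s * (d * c) * c⁻¹ * s⁻¹ * d⁻¹ := by rw [hcd]
          _ = s * (d * s⁻¹ * d⁻¹) := by group
      rw [e1]
      exact mul_mem hs (conjMem hS0 hd (inv_mem hs))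
    have hMbot : M = ⊥ := by
      have hME : M ≤ E := hMS.trans hS1E
      haveI : (M.subgroupOf E).Normal :=
        normal_subgroupOf_of_le_normalizer (normalizer_commutator_ge_left E Qh)
      have hsub : M.IsSubnormal := by
        have h0 := ((inferInstance : (M.subgroupOf E).Normal).isSubnormal).trans'
          (inferInstance : E.Normal).isSubnormal
        rwa [map_subgroupOf_eq_of_le hME] at h0
      exact le_bot_iff.1 (h.core ▸ Cores.le_pCore_of_isSubnormal hsub ((S0.2.map _).to_le hMS))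
    exact commutator_eq_bot_iff_le_centralizer.1 hMbot
  -- the final contradiction on `O_p(H)`
  set Z' := centralizer (E : Set H) ⊓ centralizer (O : Set H) with hZ'
  haveI hZn : Z'.Normal := inferInstance
  have hQZ : Qh ≤ Z' := le_inf (le_centralizer_iff.1 hQE) (le_centralizer_iff.1 hQO)
  have hZn' : Y ⊔ S ⊔ F ≤ normalizer (Z' : Set H) := normalizer_eq_top (H := Z') ▸ le_top
  have hUcov : J0 ⊔ (J ⊓ Z') = J :=
    le_antisymm (sup_le sec0.le inf_le_left)
      (hQhcov.ge.trans (sup_le_sup_left (le_inf hQhJ hQZ) _))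
  have sec2 := sec0.restrict inf_le_left hUcov le_rfl (inf_le_left.trans sec0.le_amb)
    (normInf sec0.norm hZn') le_sup_left
  obtain ⟨T, ψ, hT, hidx, hker⟩ := RankTwo.exists_action hp2 hP0p
    (prankLE_sub (h.rank p hp.out hp2) P0)
  letI : CommGroup (T ⧸ frattini T) :=
    { mul_comm := fun a b => by
        induction a using QuotientGroup.induction_on with
        | H x =>
          induction b using QuotientGroup.induction_on with
          | H y =>
            rw [← QuotientGroup.mk_mul, ← QuotientGroup.mk_mul, QuotientGroup.eq]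
            have h' := PGroup.commutatorElement_mem_frattini hT y⁻¹ x⁻¹
            simpa [commutatorElement_def, mul_assoc] using h' }
  have hexp : ∀ v : T ⧸ frattini T, v ^ p = 1 := fun v =>
    QuotientGroup.induction_on v fun x => by
      rw [← QuotientGroup.mk_pow, QuotientGroup.eq_one_iff]
      exact PGroup.pow_mem_frattini hT x
  let c : H →* MulAut P0 := MulAut.conjNormal
  have hcov2 := sec2.ker_covers_mulAut hp2 hexp hidx ((ψ.comp c).comp (Y ⊔ S ⊔ F).subtype)
  set KB := Z' ⊓ (ψ.comp c).ker with hKB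
  have hKBc : ∀ x ∈ KB, Nat.Coprime (orderOf x) p →
      x ∈ O := by
    intro x hx hcop
    have h1 : c x = 1 := congrArg Subtype.val (PGroup.eq_one_of_pow_eq_one_coprime hker
      (x := (⟨c x, hx.2⟩ : ψ.ker)) (n := orderOf x) hcop
      (Subtype.ext (by rw [SubmonoidClass.coe_pow, ← map_pow, pow_orderOf_eq_one, map_one]; rfl)))
    have hxP : x ∈ centralizer (P0 : Set H) := mem_centralizer_iff.2 fun u hu => by
      have h2 : x * u * x⁻¹ = u := by
        have := congrArg (fun φ : MulAut P0 => ((φ ⟨u, hu⟩ : P0) : H)) h1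
        simpa [c] using this
      exact (mul_inv_eq_iff_eq_mul.1 h2).symm
    have hxF : F ≤ centralizer ({x} : Set H) := hFdec.trans (by
      have hcl : ∀ A : Subgroup H, x ∈ centralizer (A : Set H) → A ≤ centralizer ({x} : Set H) :=
        fun A hA a ha => mem_centralizer_singleton_iff.2 (mem_centralizer_iff.1 hA a ha)
      exact sup_le (hcl _ hx.1.1) (sup_le (hcl _ hxP) (hcl _ hx.1.2)))
    have hxfit : x ∈ Cfsg.fittingSubgroup H := Components.centralizer_genFitting_le_fitting
      (mem_centralizer_iff.2 fun f hf => mem_centralizer_singleton_iff.1 (hxF hf))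
    obtain ⟨k, hk⟩ := RankTwo.exists_pow_mem_offCore p hxfit
    exact mem_of_pow_coprime k hk hcop
  have hKBnil : Group.IsNilpotent KB := by
    have hq : IsPGroup p (KB ⧸ center KB) := fun q => QuotientGroup.induction_on q fun x => by
      obtain ⟨k, m, hm, hord⟩ : ∃ k m, ¬ p ∣ m ∧ orderOf x = p ^ k * m :=
        Nat.exists_eq_pow_mul_and_not_dvd (orderOf_pos x).ne' p hp.out.ne_one
      refine ⟨k, ?_⟩
      rw [← QuotientGroup.mk_pow, QuotientGroup.eq_one_iff, mem_center_iff]
      intro y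
      have hO' : ((x ^ p ^ k : KB) : H) ∈ O := hKBc _ (x ^ p ^ k).2 (by
        rw [orderOf_coe, orderOf_pow' x (pow_ne_zero _ hp.out.ne_zero), hord,
          Nat.gcd_mul_right_left, Nat.mul_div_cancel_left _ (pow_pos hp.out.pos k)]
        exact (hp.out.coprime_iff_not_dvd.2 hm).symm)
      exact Subtype.ext (mem_centralizer_iff.1 y.2.1.2 _ hO').symm
    haveI : Group.IsNilpotent (KB ⧸ center KB) := hq.isNilpotent
    exact Group.of_quotient_center_nilpotent inferInstance
  have hKBF : KB ≤ J0 := (Cores.le_fittingSubgroup inferInstance hKBnil).trans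
    (Components.fitting_le_genFitting.trans le_sup_right)
  refine sec2.ne (le_antisymm inf_le_right ?_)
  conv_lhs => rw [← hcov2]
  refine sup_le le_rfl (le_inf (fun x hx => ?_) inf_le_left)
  obtain ⟨x', hx', rfl⟩ := hx.2
  exact hKBF ⟨hx.1.2, hx'⟩

end Cfsg.Agent.QTXi
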