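/-
In the configuration `Setup` either `Y` is normal or it lies in the product of the conjugates of a
component under `S`.
-/
import Cfsg.Agent.Lib.QTXi.Claim
import Cfsg.Prelude.Def_Quasithin

set_option autoImplicit false

namespace Cfsg.Agent.QTXi

open Subgroup
open scoped commutatorElement

variable {H : Type*} [Group H] [Finite H] {p : ℕ} [hp : Fact p.Prime] {S W Y0 Y : Subgroup H}

/-- A subgroup normalised by `Y` whose meet with `Y` covers the section contains `Y`. -/
theorem Setup.le_of_meet' (h : Setup p S W Y0 Y) (N : Subgroup H) (hN : Y ≤ normalizer (N : Set H))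
    (hm : Y0 ⊔ (Y ⊓ N) = Y) : Y ≤ N := by
  set M := Y ⊓ N with hMdef
  have hWY : W ≤ Y := h.W_le.trans h.sec.le
  have hM : W ⊔ M = Y := h.gen _ le_sup_left (sup_le hWY inf_le_left) (by
    refine le_antisymm (sup_le (sup_le hWY inf_le_left) h.sec.le) ?_
    conv_lhs => rw [← hm]
    exact sup_le le_sup_right (le_sup_right.trans le_sup_left))
  have hWn : W ≤ normalizer (M : Set H) := normInf (hWY.trans le_normalizer) (hWY.trans hN)
  conv_lhs => rw [← h.odd]
  rw [closure_le]
  rintro x ⟨hxY, hxo⟩
  have hx' : x ∈ ((W ⊔ M : Subgroup H) : Set H) := hM.ge hxY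
  rw [coe_mul_of_left_le_normalizer_right _ _ hWn, Set.mem_mul] at hx'
  obtain ⟨w, hw, m, hm', rfl⟩ := hx'
  have key : ∀ j : ℕ, (w ^ j)⁻¹ * (w * m) ^ j ∈ M := by
    intro j
    induction j with
    | zero => simp
    | succ j ih =>
      have h1 : w⁻¹ * ((w ^ j)⁻¹ * (w * m) ^ j) * w ∈ M := by
        simpa using conjMem hWn (inv_mem hw) ih
      have e : (w ^ (j + 1))⁻¹ * (w * m) ^ (j + 1) =
          (w⁻¹ * ((w ^ j)⁻¹ * (w * m) ^ j) * w) * m := by
        rw [pow_succ (w * m), pow_succ w]; group
      rw [e]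
      exact mul_mem h1 hm'
  obtain ⟨k, hk⟩ := h.W2 ⟨w, hw⟩
  have hk' : w ^ 2 ^ k = 1 := by simpa using congrArg Subtype.val hk
  have h2 := key (2 ^ k)
  rw [hk', inv_one, one_mul] at h2
  exact mem_of_pow_coprime k h2.2 (Nat.coprime_two_right.2 hxo)

/-- A group of order `p ^ 2` and exponent `p` from two commuting elements. -/
theorem exists_elementary_in (hp2 : p ≠ 2) {P : Subgroup H} (hP : IsPGroup p P) (hnc : ¬ IsCyclic P) :
    ∃ E : Subgroup H, E ≤ P ∧ Nat.card E = p ^ 2 ∧ (∀ u ∈ E, ∀ v ∈ E, u * v = v * u) ∧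
      ∀ u ∈ E, u ^ p = 1 := by
  obtain ⟨A, -, -, hAe, hAc⟩ := PGroup.exists_normal_elementary_sq hp2 hP (S := (⊤ : Subgroup P))
    (fun h => by
      haveI := h
      exact hnc (isCyclic_of_surjective _ (topEquiv (G := P)).surjective))
  refine ⟨A.map P.subtype, map_subtype_le _, by rw [card_map_of_injective P.subtype_injective, hAc],
    ?_, ?_⟩
  · rintro _ ⟨u, hu, rfl⟩ _ ⟨v, hv, rfl⟩
    haveI := hAe.1
    exact congrArg (fun z : A => ((z : P) : H)) (mul_comm' (⟨u, hu⟩ : A) (⟨v, hv⟩ : A))
  · rintro _ ⟨u, hu, rfl⟩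
    rw [← map_pow, hAe.2 u hu, map_one]

/-- `Y` central on the layer: it is normal. -/
theorem Setup.normal_of_centralizes (h : Setup p S W Y0 Y)
    (hY : Y ≤ Cfsg.generalizedFittingSubgroup H)
    (hE : Y ≤ centralizer (Cfsg.layer H : Set H)) : Y.Normal := by
  have hp2 := h.p2
  have hrk : Cfsg.PRankLE p 2 H := h.rank p hp.out hp2
  have hfit : Y ≤ Cfsg.fittingSubgroup H := by
    intro y hy
    obtain ⟨e, he, f, hf, rfl⟩ := mem_sup_of_normal_right.1 (hY hy)
    refine mul_mem ?_ hf
    have hec : e ∈ centralizer (Cfsg.layer H : Set H) := by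
      simpa using mul_mem (hE hy) (inv_mem (Components.fitting_le_centralizer_layer hf))
    have : e ∈ Cfsg.fittingSubgroup H ⊓ Cfsg.layer H := by
      rw [Components.fitting_inf_layer_eq]; exact ⟨he, hec⟩
    exact this.1
  have hW : W = ⊥ := by
    haveI : Fact (Nat.Prime 2) := ⟨Nat.prime_two⟩
    refine (eq_bot_iff_forall _).2 fun w hw => ?_
    obtain ⟨k, hk⟩ := h.W2 ⟨w, hw⟩
    have := RankTwo.mem_pCore_of_mem_fitting 2 (hfit ((h.W_le.trans h.sec.le) hw))
      (n := k) (by simpa using congrArg Subtype.val hk)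
    rwa [h.core, mem_bot] at this
  have hstr := h.str
  rw [hW] at hstr
  simp only [relIndex_bot_left, mem_bot] at hstr
  have hYp : IsPGroup p Y := by
    rcases hstr with ⟨hc, -⟩ | ⟨hc, -⟩ <;> exact IsPGroup.of_card hc
  set P := Cfsg.pCore p H with hP
  have hPp : IsPGroup p P := Cores.isPGroup_pCore p H
  have hYP : Y ≤ P := fun y hy => by
    obtain ⟨k, hk⟩ := hYp ⟨y, hy⟩
    exact RankTwo.mem_pCore_of_mem_fitting p (hfit hy) (n := k)
      (by simpa using congrArg Subtype.val hk)
  have hPn : ∀ g : H, g ∈ normalizer (P : Set H) := fun g => by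
    rw [normalizer_eq_top]; exact mem_top g
  rcases hstr with ⟨hc, hcomm, hexp⟩ | ⟨hc, hna⟩
  · -- elementary of order `p ^ 2`
    have hYc : ∀ u ∈ Y, ∀ v ∈ Y, u * v = v * u := fun u hu v hv =>
      commutatorElement_eq_one_iff_mul_comm.1 (hcomm u hu v hv)
    have hY0 : Y0 = ⊥ := by
      have h1 := h.sec.card
      have h2 := (Y0.subgroupOf Y).card_mul_index
      rw [show (Y0.subgroupOf Y).index = p ^ 2 from h1, hc,
        Nat.card_congr (subgroupOfEquivOfLe h.sec.le).toEquiv] at h2
      refine eq_bot_of_card_eq _ ?_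
      exact Nat.eq_of_mul_eq_mul_right (pow_pos hp.out.pos 2) (by rw [h2, one_mul])
    set A := closure {a : H | a ∈ P ∧ a ^ p = 1 ∧ ∀ x ∈ P, x * a = a * x} with hA
    have hAY : A ≤ Y := (closure_le _).2 fun a ha =>
      mem_of_commutes hrk hc hYc hexp ha.2.1 fun u hu => ha.2.2 u (hYP hu)
    haveI hAn : A.Normal := by
      refine ⟨fun a ha g => ?_⟩
      induction ha using closure_induction with
      | mem a ha =>
        refine subset_closure ⟨(inferInstance : P.Normal).conj_mem a ha.1 g,
          by rw [conj_pow, ha.2.1]; simp, fun x hx => ?_⟩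
        have := ha.2.2 _ ((inferInstance : P.Normal).conj_mem x hx g⁻¹)
        rw [inv_inv] at this
        calc x * (g * a * g⁻¹) = g * ((g⁻¹ * x * g) * a) * g⁻¹ := by group
          _ = g * (a * (g⁻¹ * x * g)) * g⁻¹ := by rw [this]
          _ = g * a * g⁻¹ * x := by group
      | one => simp
      | mul a b _ _ ha hb =>
        rw [show g * (a * b) * g⁻¹ = (g * a * g⁻¹) * (g * b * g⁻¹) by group]; exact mul_mem ha hb
      | inv a _ ha =>
        rw [show g * a⁻¹ * g⁻¹ = (g * a * g⁻¹)⁻¹ by group]; exact inv_mem ha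
    have hAne : A ≠ ⊥ := by
      intro hbot
      have hP1 : P ≠ ⊥ := fun hb => by
        have h1 := h.sec.ne
        rw [hY0, le_bot_iff.1 (hYP.trans hb.le)] at h1
        exact h1 rfl
      haveI : Nontrivial P := (nontrivial_iff_ne_bot P).2 hP1
      have hZ := hPp.center_nontrivial
      obtain ⟨k, hk0, hk⟩ :=
        (IsPGroup.nontrivial_iff_card (hPp.to_subgroup (center P))).1 hZ
      obtain ⟨z, hz⟩ := exists_prime_orderOf_dvd_card' (G := center P) p (hk ▸ dvd_pow_self p hk0.ne')
      have hzA : (((z : P)) : H) ∈ A := subset_closure ⟨(z : P).2, by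
        rw [← SubgroupClass.coe_pow, ← SubgroupClass.coe_pow, ← hz, pow_orderOf_eq_one]; rfl,
        fun x hx => congrArg Subtype.val (mem_center_iff.1 z.2 ⟨x, hx⟩)⟩
      rw [hbot, mem_bot] at hzA
      have hz1 : z = 1 := Subtype.ext (Subtype.ext hzA)
      rw [hz1, orderOf_one] at hz
      exact hp.out.ne_one hz.symm
    rcases h.sec.between A (hY0 ▸ bot_le) hAY (normalizer_eq_top (H := A) ▸ le_top) with e | e
    · exact absurd (e.trans hY0) hAne
    · exact e ▸ hAn
  · -- nonabelian of order `p ^ 3`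
    have hY0c : Nat.card Y0 = p := by
      have h2 := (Y0.subgroupOf Y).card_mul_index
      rw [show (Y0.subgroupOf Y).index = p ^ 2 from h.sec.card, hc,
        Nat.card_congr (subgroupOfEquivOfLe h.sec.le).toEquiv, show p ^ 3 = p * p ^ 2 by ring] at h2
      exact Nat.eq_of_mul_eq_mul_right (pow_pos hp.out.pos 2) h2
    haveI : (Y0.subgroupOf Y).Normal :=
      normal_subgroupOf_of_le_normalizer (h.sec.le_amb.trans h.sec.norm₀)
    have hY0cent : ∀ z ∈ Y0, ∀ y ∈ Y, y * z = z * y := fun z hz y hy => by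
      have hcd : Nat.card (Y0.subgroupOf Y) = p := by
        rw [Nat.card_congr (subgroupOfEquivOfLe h.sec.le).toEquiv, hY0c]
      have hle : Y0.subgroupOf Y ≤ center Y := by
        by_contra hnle
        have hne : Y0.subgroupOf Y ≠ ⊥ := fun hb => by
          rw [hb, Subgroup.card_bot] at hcd
          exact hp.out.ne_one hcd.symm
        have hM := PGroup.inf_center_ne_bot hYp hne
        have hd := card_dvd_of_le (inf_le_left : Y0.subgroupOf Y ⊓ center Y ≤ _)
        rw [hcd] at hd
        rcases hp.out.eq_one_or_self_of_dvd _ hd with h1 | h1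
        · exact hM (eq_bot_of_card_eq _ h1)
        · exact hnle (inf_eq_left.1 (eq_of_le_of_card_ge inf_le_left (by rw [hcd, h1])))
      exact congrArg Subtype.val (mem_center_iff.1 (hle (show (⟨z, h.sec.le hz⟩ : Y) ∈ _ from
        mem_subgroupOf.2 hz)) ⟨y, hy⟩)
    -- exponent `p`
    have hclass : ∀ x ∈ Y, ∀ y ∈ Y, ⁅x, y⁆ ^ p = 1 := fun x hx y hy => by
      have := pow_card_eq_one' (G := Y0) (x := ⟨_, h.sec.comm_mem hx hy⟩)
      rw [hY0c] at this
      simpa using congrArg Subtype.val this
    let R : Subgroup H :=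
      { carrier := {x | x ∈ Y ∧ x ^ p = 1}
        one_mem' := ⟨one_mem _, one_pow p⟩
        mul_mem' := fun {a b} ha hb => ⟨mul_mem ha.1 hb.1, by
          have hcm : ⁅b, a⁆ ∈ Y0 := h.sec.comm_mem hb.1 ha.1
          rw [PGroup.mul_pow_prime_eq hp.out hp2 (hY0cent _ hcm a ha.1) (hY0cent _ hcm b hb.1)
            (hclass b hb.1 a ha.1), ha.2, hb.2, one_mul]⟩
        inv_mem' := fun {a} ha => ⟨inv_mem ha.1, by rw [inv_pow, ha.2, inv_one]⟩ }
    have hexp : ∀ y ∈ Y, y ^ p = 1 := by
      have hRn : Y ⊔ S ≤ normalizer (R : Set H) := leNormalizerOf fun v hv k hk =>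
        ⟨conjMem h.sec.norm hv hk.1, by rw [conj_pow, hk.2]; simp⟩
      rcases h.sec.dichotomy hRn with hle | hcov
      · exfalso
        have huniq : ∀ x y : Y, orderOf x = p → y ^ p = 1 → y ∈ zpowers x := fun x y hx hy => by
          have h1 : zpowers (x : H) = Y0 := eq_of_le_of_card_ge (zpowers_le.2 (hle ⟨x.2, x.2, by
            rw [← SubgroupClass.coe_pow, ← hx, pow_orderOf_eq_one]; rfl⟩))
            (by rw [hY0c, Nat.card_zpowers, orderOf_coe, hx])
          obtain ⟨i, hi⟩ := mem_zpowers_iff.1 (h1.ge (hle ⟨y.2, y.2, by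
            rw [← SubgroupClass.coe_pow, hy]; rfl⟩))
          exact mem_zpowers_iff.2 ⟨i, Subtype.ext (by simpa using hi)⟩
        rcases PGroup.unique_order_p_cases hYp huniq with hcy | ⟨h2, -⟩
        · exact hna fun x hx y hy => commutatorElement_eq_one_iff_mul_comm.2
            (congrArg Subtype.val (mul_comm' (⟨x, hx⟩ : Y) (⟨y, hy⟩ : Y)))
        · exact hp2 h2
      · have hYR := h.gen (Y ⊓ R) (hW ▸ bot_le) inf_le_left
          (by rw [sup_comm]; exact hcov)
        exact fun y hy => ((hYR.ge hy).2).2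
    have hcenter : ∀ z ∈ Y, (∀ y ∈ Y, y * z = z * y) → z ∈ Y0 := by
      intro z hz hzc
      by_contra hz0
      apply hna
      have hle : Y ≤ centralizer (({z} : Set H) ∪ (Y0 : Set H)) := fun y hy => by
        rw [mem_centralizer_iff]
        rintro u (hu | hu)
        · rw [Set.mem_singleton_iff.1 hu]; exact (hzc y hy).symm
        · exact (hY0cent u hu y hy).symm
      -- an element outside `Y0 <z>` with `z` generates
      obtain ⟨u, hu, hu'⟩ := SetLike.exists_of_lt (lt_of_le_of_ne
        (sup_le h.sec.le (zpowers_le.2 hz)) (h.sec.zpowers_ne hz))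
      set Z1 := Y0 ⊔ zpowers z with hZ1
      have hcl : ∀ a ∈ Z1, ∀ b ∈ Y, b * a = a * b := by
        intro a ha
        have : Z1 ≤ centralizer (Y : Set H) := sup_le
          (fun w hw => mem_centralizer_iff.2 fun b hb => hY0cent w hw b hb)
          (zpowers_le.2 (mem_centralizer_iff.2 fun b hb => hzc b hb))
        exact fun b hb => mem_centralizer_iff.1 (this ha) b hb
      have hZ1c : p ^ 2 ≤ Nat.card Z1 := by
        obtain ⟨j, hj⟩ := IsPGroup.iff_card.1 (hYp.to_le (sup_le h.sec.le (zpowers_le.2 hz) : Z1 ≤ Y))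
        rw [hj]
        refine Nat.pow_le_pow_right hp.out.pos ?_
        by_contra hj2
        refine hz0 ((eq_of_le_of_card_ge (le_sup_left : Y0 ≤ Z1) ?_).ge
          (mem_sup_right (mem_zpowers z)))
        rw [hY0c, hj]
        calc p ^ j ≤ p ^ 1 := Nat.pow_le_pow_right hp.out.pos (by omega)
          _ = p := pow_one p
      have htop : Z1 ⊔ zpowers u = Y := by
        have hle' : Z1 ⊔ zpowers u ≤ Y :=
          sup_le (sup_le h.sec.le (zpowers_le.2 hz)) (zpowers_le.2 hu)
        refine eq_of_le_of_card_ge hle' ?_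
        obtain ⟨j, hj⟩ := IsPGroup.iff_card.1 (hYp.to_le hle')
        rw [hc, hj]
        refine Nat.pow_le_pow_right hp.out.pos ?_
        by_contra hj3
        refine hu' ((eq_of_le_of_card_ge (le_sup_left : Z1 ≤ Z1 ⊔ zpowers u) ?_).ge
          (mem_sup_right (mem_zpowers u)))
        rw [hj]
        exact (Nat.pow_le_pow_right hp.out.pos (by omega)).trans hZ1c
      have hY' : Y ≤ centralizer (Y : Set H) := by
        conv_lhs => rw [← htop]
        refine sup_le (fun a ha => mem_centralizer_iff.2 fun b hb => hcl a ha b hb)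
          (zpowers_le.2 (mem_centralizer_iff.2 fun b hb => ?_))
        have hb' : Z1 ⊔ zpowers u ≤ centralizer ({u} : Set H) :=
          sup_le (fun a ha => mem_centralizer_singleton_iff.2 (hcl a ha u hu).symm)
            (zpowers_le.2 (mem_centralizer_singleton_iff.2 rfl))
        exact mem_centralizer_singleton_iff.1 (hb' (htop.ge hb))
      exact fun x hx y hy => commutatorElement_eq_one_iff_mul_comm.2
        ((mem_centralizer_iff.1 (hY' hy) x hx))
    obtain ⟨E', hE'Y, hE'c, hE'comm, hE'e⟩ := exists_elementary_in hp2 hYp (fun hcy => hna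
      fun x hx y hy => commutatorElement_eq_one_iff_mul_comm.2
        (congrArg Subtype.val (mul_comm' (⟨x, hx⟩ : Y) (⟨y, hy⟩ : Y))))
    obtain ⟨T, E, hTP, hET, hEc, -, -, hTexp, hTcom, hTn⟩ := exists_omegaTwo hp2 hrk hPp (fun hcy => by
      haveI := hcy
      exact hna fun x hx y hy => commutatorElement_eq_one_iff_mul_comm.2
        (congrArg Subtype.val (mul_comm' (⟨x, hYP hx⟩ : P) (⟨y, hYP hy⟩ : P))))
    have hTY : T ≤ Y := by
      intro b hb
      have hbY : ∀ y ∈ Y, ⁅b, y⁆ ∈ Y0 := fun y hy => by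
        obtain ⟨h1, h2⟩ := hTcom b hb y (hYP hy)
        refine hcenter _ (hE'Y (mem_of_commutes hrk hE'c hE'comm hE'e (hTexp _ h1)
          (fun u hu => h2 u (hYP (hE'Y hu))))) fun u hu => h2 u (hYP hu)
      obtain ⟨t, ht, htb⟩ := exists_inner hp.out hY0c hY0cent
        (fun u hu v hv => h.sec.comm_mem hu hv) (by rw [hc]) hYp
        (fun hall => hna fun x hx y hy => commutatorElement_eq_one_iff_mul_comm.2 (hall x hx y hy))
        hbY
      have hft : Commute t (t⁻¹ * b) := mem_centralizer_iff.1 htb t ht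
      have hfp : (t⁻¹ * b) ^ p = 1 := by
        have hb' : b = t * (t⁻¹ * b) := (mul_inv_cancel_left t b).symm
        have hbp := hTexp b hb
        rw [hb', hft.mul_pow, hexp t ht, one_mul] at hbp
        exact hbp
      have hfY : t⁻¹ * b ∈ Y := hE'Y (mem_of_commutes hrk hE'c hE'comm hE'e hfp
        (fun u hu => mem_centralizer_iff.1 htb u (hE'Y hu)))
      simpa using mul_mem ht hfY
    have hTN : ∀ g : H, g ∈ normalizer (T : Set H) := fun g => hTn g (hPn g)
    have hTeq : T = Y := by
      rcases h.sec.dichotomy (K := T) (fun g _ => hTN g) with hle | hcov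
      · have h1 : T ≤ Y0 := (le_inf hTY le_rfl).trans hle
        have := (hEc ▸ Nat.le_of_dvd Nat.card_pos (card_dvd_of_le (hET.trans h1)))
        rw [hY0c] at this
        have h3 := hp.out.two_le
        nlinarith
      · have := h.gen (Y ⊓ T) (hW ▸ bot_le) inf_le_left (by rw [sup_comm]; exact hcov)
        rw [inf_eq_right.2 hTY] at this
        exact this
    exact ⟨fun y hy g => hTeq ▸ conjMem (fun g _ => hTN g) (mem_top g) (hTeq.ge hy)⟩

/-- The placement of `Y`. -/
theorem Setup.place (h : Setup p S W Y0 Y) :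
    Y.Normal ∨ ∃ K : Subgroup H, Cfsg.IsComponent K ∧ Y ≤ Cfsg.conjClosure K S := by
  have hY := h.le_genFitting
  by_cases hE : Y ≤ centralizer (Cfsg.layer H : Set H)
  · exact Or.inl (h.normal_of_centralizes hY hE)
  right
  obtain ⟨K, hK, hYK⟩ : ∃ K : Subgroup H, Cfsg.IsComponent K ∧ ¬ Y ≤ centralizer (K : Set H) := by
    by_contra hcon
    push Not at hcon
    exact hE (le_centralizer_iff.1 (Components.layer_le fun L hL => le_centralizer_iff.1 (hcon L hL)))
  refine ⟨K, hK, ?_⟩
  have hp2 := h.p2
  have hrk : Cfsg.PRankLE p 2 H := h.rank p hp.out hp2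
  set F := Cfsg.generalizedFittingSubgroup H with hF
  set EO := Cfsg.conjClosure K S with hEO
  have hconj : ∀ s : S, Cfsg.IsComponent (K.map (MulAut.conj (s : H)).toMonoidHom) := fun s =>
    Components.IsComponent.map_equiv (MulAut.conj (s : H)) hK
  have hKEO : K ≤ EO := by
    refine le_trans ?_ (le_iSup (fun s : S => K.map (MulAut.conj (s : H)).toMonoidHom) 1)
    intro x hx
    exact ⟨x, hx, by simp⟩
  have hEOl : EO ≤ Cfsg.layer H := iSup_le fun s => Components.IsComponent.le_layer (hconj s)
  have hEOS : S ≤ normalizer (EO : Set H) := leNormalizerOf fun s hs x hx => by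
    have hle : EO ≤ EO.comap (MulAut.conj s).toMonoidHom := iSup_le fun t => by
      rintro _ ⟨y, hy, rfl⟩
      refine (le_iSup (fun u : S => K.map (MulAut.conj (u : H)).toMonoidHom) (⟨s, hs⟩ * t))
        ⟨y, hy, ?_⟩
      simp [mul_assoc]
    exact hle hx
  have hEOF : F ≤ normalizer (EO : Set H) := sup_le
    (leNormalizerOf fun l hl x hx => by
      have hle : EO ≤ EO.comap (MulAut.conj l).toMonoidHom := iSup_le fun t => fun y hy =>
        (le_iSup (fun u : S => K.map (MulAut.conj (u : H)).toMonoidHom) t)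
          (conjMem (Components.IsComponent.layer_le_normalizer (hconj t)) hl hy)
      exact hle hx)
    (leNormalizerOf fun f hf x hx => by
      have := mem_centralizer_iff.1 (Components.fitting_le_centralizer_layer hf) x (hEOl hx)
      rwa [← this, mul_inv_cancel_right])
  have hVE : Y ⊔ S ≤ normalizer (EO : Set H) := sup_le (hY.trans hEOF) hEOS
  set C := centralizer (EO : Set H) with hC
  have hVC : Y ⊔ S ≤ normalizer (C : Set H) := normCentralizer hVE
  -- `Y` meets `C` inside `Y0`
  have hYC : Y ⊓ C ≤ Y0 := (h.sec.dichotomy hVC).resolve_right fun hm =>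
    hYK ((h.le_of_meet' C (le_sup_left.trans hVC) hm).trans
      (centralizer_le (SetLike.coe_subset_coe.2 hKEO)))
  -- the decomposition of `F*`
  have hother : ∀ L : Subgroup H, Cfsg.IsComponent L → L ≤ EO ∨ L ≤ C := by
    intro L hL
    by_cases hin : ∃ s : S, L = K.map (MulAut.conj (s : H)).toMonoidHom
    · obtain ⟨s, rfl⟩ := hin
      exact Or.inl (le_iSup (fun u : S => K.map (MulAut.conj (u : H)).toMonoidHom) s)
    · push Not at hin
      refine Or.inr (le_centralizer_iff.1 (iSup_le fun s => ?_))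
      exact commutator_eq_bot_iff_le_centralizer.1 (Components.IsComponent.commutator_eq_bot
        (hconj s) hL (Ne.symm (hin s)))
  have hfitC : Cfsg.fittingSubgroup H ≤ C :=
    Components.fitting_le_centralizer_layer.trans (centralizer_le (SetLike.coe_subset_coe.2 hEOl))
  have hFdec : ∀ x ∈ F, ∃ e ∈ EO, ∃ c ∈ C, x = e * c := by
    intro x hx
    have hle : F ≤ EO ⊔ C := sup_le (Components.layer_le fun L hL =>
      (hother L hL).elim (fun hl => hl.trans le_sup_left) (fun hl => hl.trans le_sup_right))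
      (hfitC.trans le_sup_right)
    have hn : C ≤ normalizer (EO : Set H) := fun c hc => mem_normalizer_iff.2 fun k => by
      constructor <;> intro hk
      · rwa [← mem_centralizer_iff.1 hc k hk, mul_inv_cancel_right]
      · have h1 := mem_centralizer_iff.1 hc _ hk
        have h2 : k = c * k * c⁻¹ := by
          calc k = c⁻¹ * ((c * k * c⁻¹) * c) := by group
            _ = c⁻¹ * (c * (c * k * c⁻¹)) := by rw [h1]
            _ = c * k * c⁻¹ := by group
        rw [h2]; exact hk
    have hx' : x ∈ ((EO ⊔ C : Subgroup H) : Set H) := hle hx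
    rw [coe_mul_of_right_le_normalizer_left _ _ hn, Set.mem_mul] at hx'
    obtain ⟨e, he, c, hc, rfl⟩ := hx'
    exact ⟨e, he, c, hc, rfl⟩
  -- an elementary subgroup of order `p ^ 2` in `EO`
  obtain ⟨PE⟩ := (inferInstance : Nonempty (Sylow p EO))
  have hnc : ¬ IsCyclic (PE : Subgroup EO) := by
    intro hcyc
    let c : (Y ⊔ S : Subgroup H) →* MulAut EO := EO.normalizerMonoidHom.comp (inclusion hVE)
    have h1 := h.sec.ker_covers c (fun Q hQ hQle => by
      have hrange : Q ≤ (MulAut.conj : EO →* MulAut EO).range := by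
        intro q hq
        obtain ⟨u, hu, rfl⟩ := hQle hq
        obtain ⟨e, he, d, hd, hud⟩ := hFdec u (hY hu)
        refine ⟨⟨e, he⟩, MulEquiv.ext fun z => Subtype.ext ?_⟩
        show e * (z : H) * e⁻¹ = (u : H) * z * (u : H)⁻¹
        have hdz := mem_centralizer_iff.1 hd z z.2
        rw [hud]
        calc e * (z : H) * e⁻¹ = e * ((z : H) * d) * d⁻¹ * e⁻¹ := by group
          _ = e * (d * z) * d⁻¹ * e⁻¹ := by rw [hdz]
          _ = e * d * z * (e * d)⁻¹ := by group
      set Q' := Q.subgroupOf (MulAut.conj : EO →* MulAut EO).range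
      have hQ' : IsPGroup p Q' := hQ.of_equiv (subgroupOfEquivOfLe hrange).symm
      let PR := PE.mapSurjective (MulAut.conj : EO →* MulAut EO).rangeRestrict_surjective
      obtain ⟨R, hR⟩ := hQ'.exists_le_sylow
      have hcR : IsCyclic (R : Subgroup (MulAut.conj : EO →* MulAut EO).range) := by
        haveI : IsCyclic (PR : Subgroup (MulAut.conj : EO →* MulAut EO).range) :=
          isCyclic_of_surjective _ (MonoidHom.subgroupMap_surjective _ _)
        exact isCyclic_of_surjective (PR.equiv R) (PR.equiv R).surjective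
      haveI : IsCyclic Q' := isCyclic_of_injective (inclusion hR) (inclusion_injective hR)
      exact isCyclic_of_surjective _ (subgroupOfEquivOfLe hrange).surjective)
    refine h.sec.ne (le_antisymm h.sec.le ?_)
    conv_lhs => rw [← h1]
    refine sup_le le_rfl (fun y hy => hYC ⟨hy.1, ?_⟩)
    obtain ⟨y', hy', rfl⟩ := hy.2
    refine mem_centralizer_iff.2 fun z hz => ?_
    have h2 : ((c y' ⟨z, hz⟩ : EO) : H) = z := by
      rw [MonoidHom.mem_ker.1 hy']; rfl
    have h3 : (y' : H) * z * (y' : H)⁻¹ = z := h2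
    exact (mul_inv_eq_iff_eq_mul.1 h3).symm
  obtain ⟨B, hBle, hBc, hBcomm, hBexp⟩ :=
    exists_elementary_in (P := (PE : Subgroup EO).map EO.subtype) hp2 (PE.2.map _) (fun hcy => hnc (by
      haveI := hcy
      exact isCyclic_of_surjective _
        ((PE : Subgroup EO).equivMapOfInjective EO.subtype EO.subtype_injective).symm.surjective))
  have hBEO : B ≤ EO := hBle.trans (map_subtype_le _)
  have hperfEO : ⁅EO, EO⁆ = EO := le_antisymm (commutator_le_self EO) (iSup_le fun s => by
    rw [← Components.IsComponent.perfect (hconj s)]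
    exact commutator_mono (le_iSup (fun u : S => K.map (MulAut.conj (u : H)).toMonoidHom) s)
      (le_iSup (fun u : S => K.map (MulAut.conj (u : H)).toMonoidHom) s))
  have hinC : ∀ x ∈ C, x ^ p = 1 → x ∈ B := fun x hx hxp =>
    mem_of_commutes hrk hBc hBcomm hBexp hxp fun u hu => mem_centralizer_iff.1 hx u (hBEO hu)
  -- `O_p(H)` is cyclic
  set P := Cfsg.pCore p H with hP
  have hPC : P ≤ C := (Cores.pCore_le_fittingSubgroup p).trans hfitC
  have hPcyc : IsCyclic P := by
    by_contra hncP
    obtain ⟨A, hAP, hAc, hAcomm, hAexp⟩ :=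
      exists_elementary_in hp2 (Cores.isPGroup_pCore p H) hncP
    have hpc : ¬ p ∣ Nat.card EO := not_dvd_of_perfect_central hp2 (by
        apply map_injective EO.subtype_injective
        rw [_root_.commutator_def, Subgroup.map_commutator, ← MonoidHom.range_eq_map, range_subtype,
          hperfEO])
      (fun x hx => mem_center_iff.2 fun y => Subtype.ext (by
        have hxA : (x : H) ∈ A := mem_of_commutes hrk hAc hAcomm hAexp
          (by simpa using congrArg Subtype.val hx)
          fun u hu => (mem_centralizer_iff.1 (hPC (hAP hu)) x x.2).symm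
        exact mem_centralizer_iff.1 (hPC (hAP hxA)) y y.2))
    apply hpc
    calc p ∣ p ^ 2 := dvd_pow_self p two_ne_zero
      _ = Nat.card B := hBc.symm
      _ ∣ Nat.card EO := card_dvd_of_le hBEO
  -- the normal subgroup of `F*` of order prime to `p`
  set N2 := (Cfsg.pPrimeCore p F).map F.subtype with hN2
  haveI : N2.Normal := inferInstance
  have hN2card : ¬ p ∣ Nat.card N2 := by
    rw [card_map_of_injective F.subtype_injective]
    exact Cores.not_dvd_card_pPrimeCore
  have hN2le : ∀ A : Subgroup H, A ≤ F → F ≤ normalizer (A : Set H) → ¬ p ∣ Nat.card A → A ≤ N2 := by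
    intro A hAF hFA hA
    have h1 := Cores.le_pPrimeCore (p := p) (normal_subgroupOf_of_le_normalizer hFA)
      (by rw [Nat.card_congr (subgroupOfEquivOfLe hAF).toEquiv]
          exact (hp.out.coprime_iff_not_dvd.2 hA).symm)
    intro x hx
    exact ⟨⟨x, hAF hx⟩, h1 hx, rfl⟩
  have hFdec2 : F ≤ (EO ⊔ N2) ⊔ P := by
    refine sup_le (Components.layer_le fun L hL => ?_) ((RankTwo.fitting_le p).trans ?_)
    · rcases hother L hL with hl | hl
      · exact hl.trans (le_sup_left.trans le_sup_left)
      · refine (hN2le L ((Components.IsComponent.le_layer hL).trans Components.layer_le_genFitting) ?_ ?_).trans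
          (le_sup_right.trans le_sup_left)
        · refine sup_le (Components.IsComponent.layer_le_normalizer hL) (Components.fitting_le_centralizer_layer.trans ?_)
          refine (centralizer_le (SetLike.coe_subset_coe.2 (Components.IsComponent.le_layer hL))).trans fun c hc => ?_
          exact centralizer_le_normalizer _ hc
        · haveI := hL.2.1
          refine not_dvd_of_perfect_central hp2 (Group.IsPerfect.commutator_eq_top) fun x hx => ?_
          have hxB : (x : H) ∈ B := hinC x (hl x.2) (by simpa using congrArg Subtype.val hx)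
          refine mem_center_iff.2 fun y => Subtype.ext ?_
          exact (mem_centralizer_iff.1 (hl y.2) x (hBEO hxB)).symm
    · refine sup_le le_sup_right ((hN2le _ ?_ ?_ (RankTwo.not_dvd_card_offCore p)).trans
        (le_sup_right.trans le_sup_left))
      · refine le_trans (iSup_le fun q => ?_) Components.fitting_le_genFitting
        haveI : Fact ((q : Nat.Primes) : ℕ).Prime := ⟨q.1.2⟩
        exact Cores.pCore_le_fittingSubgroup _
      · exact normalizer_eq_top (H := RankTwo.offCore p H) ▸ le_top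
  set L := EO ⊔ N2 with hL
  have hVL : Y ⊔ S ≤ normalizer (L : Set H) :=
    normSup hVE (normalizer_eq_top (H := N2) ▸ le_top)
  -- `Y` covers inside `L`
  have hYL : Y ≤ L := by
    refine h.le_of_meet' L (le_sup_left.trans hVL) ?_
    let L' := L.subgroupOf (normalizer (L : Set H))
    let φ : (Y ⊔ S : Subgroup H) →* (normalizer (L : Set H) : Subgroup H) ⧸ L' :=
      (QuotientGroup.mk' L').comp (inclusion hVL)
    have h1 := h.sec.ker_covers φ (fun Q hQ hQle => by
      haveI : IsCyclic (P.subgroupOf (normalizer (L : Set H))) :=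
        isCyclic_of_injective (f := (inclusion (le_rfl : P ≤ P)).comp
          { toFun := fun x => ⟨x.1.1, x.2⟩, map_one' := rfl, map_mul' := fun _ _ => rfl })
          (fun a b hab => Subtype.ext (Subtype.ext (by simpa using congrArg Subtype.val hab)))
      have hPi : Q ≤ (P.subgroupOf (normalizer (L : Set H))).map (QuotientGroup.mk' L') := by
        intro q hq
        obtain ⟨u, hu, rfl⟩ := hQle hq
        obtain ⟨l, hl, z, hz, he⟩ := mem_sup_of_normal_right.1 (hFdec2 (hY hu))
        replace he : l * z = (u : H) := he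
        have hlN : l ∈ normalizer (L : Set H) := le_normalizer hl
        have hzN : z ∈ normalizer (L : Set H) := by
          rw [show z = l⁻¹ * u by rw [← he, inv_mul_cancel_left]]
          exact mul_mem (inv_mem hlN) (hVL u.2)
        refine ⟨⟨z, hzN⟩, hz, ?_⟩
        show ((⟨z, hzN⟩ : (normalizer (L : Set H) : Subgroup H)) :
            (normalizer (L : Set H) : Subgroup H) ⧸ L') = ((inclusion hVL u) : _ ⧸ L')
        refine QuotientGroup.eq.2 (mem_subgroupOf.2 ?_)
        show z⁻¹ * (u : H) ∈ L
        rw [← he]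
        simpa [mul_assoc] using conjMem (le_refl (normalizer (L : Set H))) (inv_mem hzN) hl
      haveI : IsCyclic ((P.subgroupOf (normalizer (L : Set H))).map (QuotientGroup.mk' L')) :=
        isCyclic_of_surjective _ (MonoidHom.subgroupMap_surjective _ _)
      exact isCyclic_of_injective (inclusion hPi) (inclusion_injective hPi))
    refine le_antisymm (sup_le h.sec.le inf_le_left) ?_
    conv_lhs => rw [← h1]
    refine sup_le_sup_left (fun y hy => ⟨hy.1, ?_⟩) _
    obtain ⟨y', hy', rfl⟩ := hy.2
    exact mem_subgroupOf.1 ((QuotientGroup.eq_one_iff _).1 hy' : inclusion hVL y' ∈ L')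
  refine h.le_of_meet' EO (le_sup_left.trans hVE) ?_
  let E' := EO.subgroupOf (normalizer (EO : Set H))
  let φ : (Y ⊔ S : Subgroup H) →* (normalizer (EO : Set H) : Subgroup H) ⧸ E' :=
    (QuotientGroup.mk' E').comp (inclusion hVE)
  have h1 := h.sec.ker_covers φ (fun Q hQ hQle => by
    have hQi : Q ≤ (N2.subgroupOf (normalizer (EO : Set H))).map (QuotientGroup.mk' E') := by
      intro q hq
      obtain ⟨u, hu, rfl⟩ := hQle hq
      obtain ⟨l, hl, z, hz, he⟩ := mem_sup_of_normal_right.1 (hYL hu)
      replace he : l * z = (u : H) := he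
      have hzN : z ∈ normalizer (EO : Set H) := by
        rw [show z = l⁻¹ * u by rw [← he, inv_mul_cancel_left]]
        exact mul_mem (inv_mem (le_normalizer hl)) (hVE u.2)
      refine ⟨⟨z, hzN⟩, hz, ?_⟩
      show ((⟨z, hzN⟩ : (normalizer (EO : Set H) : Subgroup H)) :
          (normalizer (EO : Set H) : Subgroup H) ⧸ E') = ((inclusion hVE u) : _ ⧸ E')
      refine QuotientGroup.eq.2 (mem_subgroupOf.2 ?_)
      show z⁻¹ * (u : H) ∈ EO
      rw [← he]
      simpa [mul_assoc] using conjMem (le_refl (normalizer (EO : Set H))) (inv_mem hzN) hl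
    have hd : Nat.card Q ∣ Nat.card N2 := by
      refine (card_dvd_of_le hQi).trans ((card_map_dvd _ _).trans ?_)
      exact card_comap_dvd_of_injective N2 _ (Subgroup.subtype_injective _)
    obtain ⟨k, hk⟩ := IsPGroup.iff_card.1 hQ
    rcases Nat.eq_zero_or_pos k with hk0 | hk0
    · haveI : Subsingleton Q := (Nat.card_eq_one_iff_unique.1 (by rw [hk, hk0, pow_zero])).1
      exact isCyclic_of_subsingleton
    · exact absurd ((dvd_pow_self p hk0.ne').trans (hk ▸ hd)) hN2card)
  refine le_antisymm (sup_le h.sec.le inf_le_left) ?_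
  conv_lhs => rw [← h1]
  refine sup_le_sup_left (fun y hy => ⟨hy.1, ?_⟩) _
  obtain ⟨y', hy', rfl⟩ := hy.2
  exact mem_subgroupOf.1 ((QuotientGroup.eq_one_iff _).1 hy' : inclusion hVE y' ∈ E')

end Cfsg.Agent.QTXi
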