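/-
Solvable uniqueness groups: members of `Ξ*(G, T)` are normal in the maximal 2-locals above them.
-/
import Cfsg.Agent.Lib.QTXi.Place
import Cfsg.Agent.Lib.Components.Quasisimple
import Cfsg.Agent.Lib.Cores.Subnormal

set_option autoImplicit false

namespace Cfsg.Agent.QTXi

open Subgroup
open scoped commutatorElement

variable {G : Type*} [Group G] [Finite G]

/-- Odd rank is unchanged on dividing by a normal subgroup of order prime to `r`. -/
theorem prankLE_quot {r k : ℕ} [hr : Fact r.Prime] (N : Subgroup G) [N.Normal]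
    (hN : ¬ r ∣ Nat.card N) (h : Cfsg.PRankLE r k G) : Cfsg.PRankLE r k (G ⧸ N) := by
  intro E hEc hEe
  set f := QuotientGroup.mk' N with hf
  have hE : IsPGroup r E := fun x => ⟨1, Subtype.ext (by simpa using hEe x x.2)⟩
  obtain ⟨a, ha⟩ := IsPGroup.iff_card.1 hE
  set U := E.comap f with hU
  have hNU : N ≤ U := fun x hx => by
    show (x : G ⧸ N) ∈ E
    rw [(QuotientGroup.eq_one_iff x).2 hx]
    exact one_mem _
  have hmap : U.map f = E := map_comap_eq_self_of_surjective (QuotientGroup.mk'_surjective N) E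
  have hidx : N.relIndex U = r ^ a := by
    have h1 := relIndex_map_map f (⊥ : Subgroup G) U
    rw [Subgroup.map_bot, hmap, relIndex_bot_left, bot_sup_eq, QuotientGroup.ker_mk',
      sup_eq_left.2 hNU, ha] at h1
    exact h1.symm
  obtain ⟨D, hDU, hD, hcov⟩ :=
    exists_pgroup_covering hNU (normalizer_eq_top (H := N) ▸ le_top) hidx
  have hinj : ∀ x ∈ D, f x = 1 → x = 1 := fun x hx h1 => by
    obtain ⟨i, hi⟩ := IsPGroup.iff_orderOf.1 hD ⟨x, hx⟩
    rw [orderOf_mk] at hi
    rcases Nat.eq_zero_or_pos i with hi0 | hi0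
    · rw [hi0, pow_zero] at hi; exact orderOf_eq_one_iff.1 hi
    · refine absurd ((dvd_pow_self r hi0.ne').trans (hi ▸ ?_)) hN
      have hxN : x ∈ N := (QuotientGroup.eq_one_iff x).1 h1
      rw [← Subgroup.orderOf_mk (H := N) x hxN]
      exact orderOf_dvd_natCard _
  have hDmap : D.map f = E := by
    refine le_antisymm (hmap ▸ map_mono hDU) ?_
    rw [← hmap, ← hcov, Subgroup.map_sup,
      (Subgroup.map_eq_bot_iff N).2 (QuotientGroup.ker_mk' N).ge, bot_sup_eq]
  have hfe : Function.Injective (f.comp D.subtype) := (injective_iff_map_eq_one _).2 fun x hx =>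
    Subtype.ext (hinj x x.2 hx)
  have hmemE : ∀ x ∈ D, f x ∈ E := fun x hx => hDmap.le (mem_map_of_mem f hx)
  haveI := hEc
  have hDc : IsMulCommutative D := ⟨⟨fun x y => hfe (by
    rw [map_mul, map_mul]
    exact congrArg Subtype.val
      (mul_comm' (⟨f x, hmemE x x.2⟩ : E) (⟨f y, hmemE y y.2⟩ : E)))⟩⟩
  have hDe : ∀ x ∈ D, x ^ r = 1 := fun x hx => hinj _ (pow_mem hx r) (by
    rw [map_pow]; exact hEe _ (hmemE x hx))
  refine le_trans (le_of_eq ?_) (h D hDc hDe)
  rw [← hDmap, show D.map f = (f.comp D.subtype).range by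
    rw [MonoidHom.range_comp, range_subtype]]
  exact Nat.card_congr (MonoidHom.ofInjective hfe).symm.toEquiv

theorem exists_maximalTwoLocal {L : Subgroup G} (hL : Cfsg.IsTwoLocal L) :
    ∃ M, Cfsg.IsMaximalTwoLocal M ∧ L ≤ M := by
  obtain ⟨M, hLM, hM⟩ :=
    Finite.exists_le_maximal (α := Subgroup G) (p := Cfsg.IsTwoLocal) (a := L) hL
  exact ⟨M, ⟨hM.prop, fun N hN hMN => le_antisymm (hM.2 hN hMN) hMN⟩, hLM⟩

/-- The data of a member of `Ξ(G, T)`. -/
structure XiData (p : ℕ) (T : Subgroup G) (W Y0 X : Subgroup G) : Prop where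
  sec : IrrSec p (X ⊔ T) Y0 X
  W2 : IsPGroup 2 W
  W_le : W ≤ Y0
  W_norm : X ⊔ T ≤ normalizer (W : Set G)
  W_max : ∀ N : Subgroup G, N ≤ X → IsPGroup 2 N → X ≤ normalizer (N : Set G) → N ≤ W
  gen : ∀ M : Subgroup G, W ≤ M → M ≤ X → M ⊔ Y0 = X → M = X
  odd : closure {x : G | x ∈ X ∧ Odd (orderOf x)} = X
  str : (W.relIndex X = p ^ 2 ∧ (∀ x ∈ X, ∀ y ∈ X, ⁅x, y⁆ ∈ W) ∧ ∀ x ∈ X, x ^ p ∈ W) ∨
    (W.relIndex X = p ^ 3 ∧ ¬ ∀ x ∈ X, ∀ y ∈ X, ⁅x, y⁆ ∈ W)

/-- The Frattini subgroup of an elementary group of order `p ^ 2` or a nonabelian one of order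
`p ^ 3` has index `p ^ 2`. -/
theorem frattini_index_eq {Q : Type*} [Group Q] [Finite Q] {p : ℕ} [hp : Fact p.Prime]
    (h : (Nat.card Q = p ^ 2 ∧ IsMulCommutative Q ∧ ∀ x : Q, x ^ p = 1) ∨
      (Nat.card Q = p ^ 3 ∧ ¬ IsMulCommutative Q)) : (frattini Q).index = p ^ 2 := by
  have hQ : IsPGroup p Q := by
    rcases h with ⟨h1, -⟩ | ⟨h1, -⟩ <;> exact IsPGroup.of_card h1
  have hnc : ¬ IsCyclic Q := by
    intro hc
    rcases h with ⟨h1, -, h3⟩ | ⟨-, h2⟩
    · obtain ⟨g, hg⟩ := IsCyclic.exists_generator (α := Q)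
      have h4 := orderOf_eq_card_of_forall_mem_zpowers hg
      have h5 : orderOf g ∣ p := orderOf_dvd_of_pow_eq_one (h3 g)
      rw [h4, h1] at h5
      have h6 := Nat.le_of_dvd hp.out.pos h5
      have := hp.out.two_le
      nlinarith
    · exact h2 inferInstance
  obtain ⟨j, hj⟩ := hQ.index (frattini Q)
  have hj2 : 2 ≤ j := by
    by_contra hlt
    haveI : IsCyclic (Q ⧸ frattini Q) := isCyclic_of_card_dvd_prime (p := p) (by
      rw [← index_eq_card, hj]; exact (pow_dvd_pow p (by omega : j ≤ 1)).trans (pow_one p).dvd)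
    obtain ⟨g, hg⟩ := IsCyclic.exists_generator (α := Q ⧸ frattini Q)
    induction g using QuotientGroup.induction_on with
    | H g =>
      refine hnc (isCyclic_iff_exists_zpowers_eq_top.2 ⟨g, frattini_nongenerating (eq_top_iff.2 ?_)⟩)
      intro x _
      obtain ⟨i, hi⟩ := mem_zpowers_iff.1 (hg (x : Q ⧸ frattini Q))
      rw [← QuotientGroup.mk_zpow] at hi
      have := mul_mem (mem_sup_left (T := frattini Q) (zpow_mem (mem_zpowers g) i))
        (mem_sup_right (S := zpowers g) (QuotientGroup.eq.1 hi))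
      simpa using this
  have hcard := card_mul_index (frattini Q)
  rcases h with ⟨h1, -⟩ | ⟨h1, h2⟩
  · rw [hj, h1] at hcard
    have : j ≤ 2 := (Nat.pow_le_pow_iff_right hp.out.one_lt).1
      (Nat.le_of_dvd (pow_pos hp.out.pos 2) (Dvd.intro_left _ hcard))
    rw [hj]; congr 1; omega
  · obtain ⟨i, hi⟩ := IsPGroup.iff_card.1 (hQ.to_subgroup (frattini Q))
    rw [hi, hj, h1, ← pow_add] at hcard
    have hij := Nat.pow_right_injective hp.out.two_le hcard
    have hi0 : i ≠ 0 := by
      intro hi0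
      have hb : frattini Q = ⊥ := eq_bot_of_card_eq _ (by rw [hi, hi0, pow_zero])
      refine h2 ⟨⟨fun a b => ?_⟩⟩
      have := PGroup.commutatorElement_mem_frattini hQ a b
      rw [hb, mem_bot] at this
      exact commutatorElement_eq_one_iff_mul_comm.1 this
    rw [hj]; congr 1; omega

theorem xiData {p : ℕ} [hp : Fact p.Prime] {T X : Subgroup G}
    (hodd : Cfsg.oddGenerated X = X) (hTn : T ≤ normalizer (X : Set G))
    (hcase : (Nat.card (↥X ⧸ Cfsg.pCore 2 ↥X) = p ^ 2 ∧
        IsMulCommutative (↥X ⧸ Cfsg.pCore 2 ↥X) ∧ ∀ x : ↥X ⧸ Cfsg.pCore 2 ↥X, x ^ p = 1) ∨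
      (Nat.card (↥X ⧸ Cfsg.pCore 2 ↥X) = p ^ 3 ∧ ¬ IsMulCommutative (↥X ⧸ Cfsg.pCore 2 ↥X)))
    (hirr : ∀ Y : Subgroup G, Cfsg.twoPhiCore X ≤ Y → Y ≤ X → T ≤ normalizer (Y : Set G) →
      Y = Cfsg.twoPhiCore X ∨ Y = X) :
    XiData p T ((Cfsg.pCore 2 ↥X).map X.subtype) (Cfsg.twoPhiCore X) X := by
  set N := Cfsg.pCore 2 ↥X with hN
  set Φ := (frattini (↥X ⧸ N)).comap (QuotientGroup.mk' N) with hΦ
  have hY0 : Cfsg.twoPhiCore X = Φ.map X.subtype := rfl
  have hNΦ : N ≤ Φ := fun x hx => by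
    show (x : ↥X ⧸ N) ∈ frattini (↥X ⧸ N)
    rw [(QuotientGroup.eq_one_iff x).2 hx]
    exact one_mem _
  haveI hΦn : Φ.Normal := inferInstance
  have hNaut : ∀ a : MulAut X, ∀ x ∈ N, a x ∈ N := fun a x hx =>
    (PGroup.aut_mem_iff a x).2 hx
  have hΦaut : ∀ a : MulAut X, ∀ x ∈ Φ, a x ∈ Φ := by
    intro a x hx
    let b : MulAut (↥X ⧸ N) := QuotientGroup.congr N N a (characteristic_iff_map_eq.1 inferInstance a)
    exact (PGroup.aut_mem_iff (H := frattini (↥X ⧸ N)) b (x : ↥X ⧸ N)).2 hx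
  have hnorm : ∀ K : Subgroup X, (∀ a : MulAut X, ∀ x ∈ K, a x ∈ K) →
      X ⊔ T ≤ normalizer ((K.map X.subtype : Subgroup G) : Set G) := by
    intro K hK
    have hle : X ⊔ T ≤ normalizer (X : Set G) := sup_le le_normalizer hTn
    refine leNormalizerOf fun v hv k hk => ?_
    obtain ⟨k', hk', rfl⟩ := hk
    exact ⟨X.normalizerMonoidHom ⟨v, hle hv⟩ k', hK _ k' hk', rfl⟩
  have hrel : ∀ K : Subgroup X, (K.map X.subtype).relIndex X = K.index := fun K => by
    rw [relIndex, subgroupOf, comap_map_eq_self_of_injective X.subtype_injective]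
  refine ⟨⟨map_subtype_le _, le_sup_left, sup_le le_normalizer hTn, hY0 ▸ hnorm Φ hΦaut, ?_,
      fun K h1 h2 h3 => hirr K h1 h2 (le_sup_right.trans h3)⟩,
    (Cores.isPGroup_pCore 2 ↥X).map _, map_mono hNΦ, hnorm N hNaut, fun M hMX hM hMn => ?_,
    fun M hWM hMX hM => ?_, hodd, ?_⟩
  · rw [hY0, hrel, hΦ, index_comap_of_surjective _ (QuotientGroup.mk'_surjective N)]
    exact frattini_index_eq hcase
  · haveI : (M.subgroupOf X).Normal := normal_subgroupOf_of_le_normalizer hMn
    have h1 : M.subgroupOf X ≤ N := Cores.le_pCore inferInstance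
      (hM.of_equiv (subgroupOfEquivOfLe hMX).symm)
    intro x hx
    exact ⟨⟨x, hMX hx⟩, h1 hx, rfl⟩
  · have hNM : N ≤ M.subgroupOf X := fun x hx => hWM (mem_map_of_mem X.subtype hx)
    have h1 : ((M.subgroupOf X).map (QuotientGroup.mk' N)) ⊔ frattini (↥X ⧸ N) = ⊤ := by
      rw [← map_comap_eq_self_of_surjective (QuotientGroup.mk'_surjective N) (frattini (↥X ⧸ N)),
        ← Subgroup.map_sup]
      have e : M.subgroupOf X ⊔ Φ = ⊤ := by
        apply map_injective X.subtype_injective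
        rw [Subgroup.map_sup, subgroupOf_map_subtype, inf_of_le_left hMX, ← hY0, hM,
          ← MonoidHom.range_eq_map, range_subtype]
      rw [show (frattini (↥X ⧸ N)).comap (QuotientGroup.mk' N) = Φ from rfl, e,
        map_top_of_surjective _ (QuotientGroup.mk'_surjective N)]
    have h2 := frattini_nongenerating h1
    have h3 := congrArg (comap (QuotientGroup.mk' N)) h2
    rw [comap_map_eq, QuotientGroup.ker_mk', sup_eq_left.2 hNM, comap_top] at h3
    exact le_antisymm hMX (subgroupOf_eq_top.1 h3)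
  · have hmemW : ∀ x : X, (x : G) ∈ N.map X.subtype ↔ x ∈ N := fun x =>
      ⟨fun ⟨y, hy, he⟩ => (Subtype.ext he : y = x) ▸ hy, fun hx => mem_map_of_mem _ hx⟩
    have hcomm : ∀ x y : X, (⁅(x : G), (y : G)⁆ ∈ N.map X.subtype ↔
        (x : ↥X ⧸ N) * y = y * x) := fun x y => by
      rw [show ⁅(x : G), (y : G)⁆ = ((⁅x, y⁆ : X) : G) by simp [commutatorElement_def], hmemW,
        ← QuotientGroup.eq_one_iff, ← QuotientGroup.mk'_apply, map_commutatorElement,
        commutatorElement_eq_one_iff_mul_comm]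
      rfl
    rcases hcase with ⟨h1, h2, h3⟩ | ⟨h1, h2⟩
    · refine Or.inl ⟨by rw [hrel, index_eq_card, h1], fun x hx y hy => ?_, fun x hx => ?_⟩
      · exact (hcomm ⟨x, hx⟩ ⟨y, hy⟩).2 (h2.is_comm.comm _ _)
      · have h4 := h3 ((⟨x, hx⟩ : X) : ↥X ⧸ N)
        rw [← QuotientGroup.mk_pow, QuotientGroup.eq_one_iff] at h4
        exact mem_map_of_mem X.subtype h4
    · refine Or.inr ⟨by rw [hrel, index_eq_card, h1], fun hall => h2 ⟨⟨fun a b => ?_⟩⟩⟩
      induction a using QuotientGroup.induction_on with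
      | H a =>
        induction b using QuotientGroup.induction_on with
        | H b => exact (hcomm a b).1 (hall a a.2 b b.2)

/-- A section is transported along a surjection with kernel meeting it inside the bottom. -/
theorem IrrSec.map_mk {p : ℕ} [Fact p.Prime] {V U0 U : Subgroup G} (h : IrrSec p V U0 U)
    (F : Subgroup G) [F.Normal] (hUF : U ⊓ F ≤ U0) :
    IrrSec p (V.map (QuotientGroup.mk' F)) (U0.map (QuotientGroup.mk' F))
      (U.map (QuotientGroup.mk' F)) := by
  have h' := h.sup_normal F hUF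
  have hsurj := QuotientGroup.mk'_surjective F
  refine ⟨map_mono h.le, map_mono h.le_amb, (map_mono h.norm).trans (le_normalizer_map _),
    (map_mono h.norm₀).trans (le_normalizer_map _), ?_, fun K h1 h2 h3 => ?_⟩
  · rw [relIndex_map_map, QuotientGroup.ker_mk']; exact h'.card
  · have hKn : V ⊔ F ≤ normalizer ((K.comap (QuotientGroup.mk' F) : Subgroup G) : Set G) :=
      leNormalizerOf fun v hv k hk => by
        rw [mem_comap] at hk ⊢
        rw [map_mul, map_mul, map_inv]
        refine conjMem h3 ?_ hk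
        obtain ⟨a, ha, f, hf, rfl⟩ := mem_sup_of_normal_right.1 hv
        refine ⟨a, ha, ?_⟩
        rw [map_mul, show (QuotientGroup.mk' F) f = 1 from (QuotientGroup.eq_one_iff f).2 hf, mul_one]
    have hlo : U0 ⊔ F ≤ K.comap (QuotientGroup.mk' F) := by
      refine sup_le (map_le_iff_le_comap.1 h1) fun f hf => ?_
      rw [mem_comap, show (QuotientGroup.mk' F) f = 1 from (QuotientGroup.eq_one_iff f).2 hf]
      exact one_mem _
    have hhi : K.comap (QuotientGroup.mk' F) ≤ U ⊔ F := by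
      refine (comap_mono h2).trans ?_
      rw [comap_map_eq, QuotientGroup.ker_mk']
    have hmapF : ∀ A : Subgroup G,
        (A ⊔ F).map (QuotientGroup.mk' F) = A.map (QuotientGroup.mk' F) := fun A => by
      rw [Subgroup.map_sup, (Subgroup.map_eq_bot_iff F).2 (QuotientGroup.ker_mk' F).ge, sup_bot_eq]
    rcases h'.between _ hlo hhi hKn with e | e
    · left; rw [← map_comap_eq_self_of_surjective hsurj K, e, hmapF]
    · right; rw [← map_comap_eq_self_of_surjective hsurj K, e, hmapF]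

theorem setup_of_data {p : ℕ} [hp : Fact p.Prime] (hp2 : p ≠ 2) {T W Y0 X : Subgroup G}
    (d : XiData p T W Y0 X) (hT : IsPGroup 2 T ∧ ¬ 2 ∣ T.index)
    (hrank : ∀ r : ℕ, r.Prime → r ≠ 2 → Cfsg.PRankLE r 2 G) :
    Setup p (T.map (QuotientGroup.mk' (Cfsg.pCore 2 G)))
      (W.map (QuotientGroup.mk' (Cfsg.pCore 2 G))) (Y0.map (QuotientGroup.mk' (Cfsg.pCore 2 G)))
      (X.map (QuotientGroup.mk' (Cfsg.pCore 2 G))) := by
  set R := Cfsg.pCore 2 G with hR
  set π := QuotientGroup.mk' R with hπ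
  have hXR : X ⊓ R ≤ W := d.W_max _ inf_le_left ((Cores.isPGroup_pCore 2 G).to_le inf_le_right)
    (normInf le_normalizer (normalizer_eq_top (H := R) ▸ le_top))
  have hsupT : (X.map π) ⊔ (T.map π) = (X ⊔ T).map π := (Subgroup.map_sup _ _ _).symm
  have hmem : ∀ A : Subgroup G, ∀ x : G, x ∈ X → W ≤ A → A ≤ X → π x ∈ A.map π → x ∈ A := by
    intro A x hx hWA hAX hxA
    obtain ⟨a, ha, he⟩ := hxA
    have h1 : a⁻¹ * x ∈ R := QuotientGroup.eq.1 he
    have h2 : a⁻¹ * x ∈ X := mul_mem (inv_mem (hAX ha)) hx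
    have := mul_mem ha (hWA (hXR ⟨h2, h1⟩))
    simpa using this
  have hrelW : (W.map π).relIndex (X.map π) = W.relIndex X := by
    rw [relIndex_map_map, hπ, QuotientGroup.ker_mk']
    have hsurj : ∀ x ∈ X ⊔ R, ∃ a ∈ X, ∃ l ∈ W ⊔ R, x = a * l := fun x hx => by
      obtain ⟨a, ha, l, hl, rfl⟩ := mem_sup_of_normal_right.1 hx
      exact ⟨a, ha, l, mem_sup_right hl, rfl⟩
    rw [relIndex_eq_of_prod le_sup_left hsurj, ← inf_relIndex_right]
    congr 1
    refine le_antisymm (fun x hx => ?_) (le_inf le_sup_left (d.W_le.trans d.sec.le))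
    obtain ⟨hx1, hx2⟩ := hx
    obtain ⟨w, hw, r, hr, rfl⟩ := mem_sup_of_normal_right.1 hx1
    refine mul_mem hw (hXR ⟨?_, hr⟩)
    simpa using X.mul_mem (X.inv_mem ((d.W_le.trans d.sec.le) hw)) hx2
  refine ⟨hp2, Cores.pCore_quotient_self 2 G, ⟨hT.1.map _, fun h2 => hT.2 ?_⟩, fun r hr hr2 => ?_,
    hsupT ▸ d.sec.map_mk R (hXR.trans d.W_le), d.W2.map _, map_mono d.W_le,
    hsupT ▸ (map_mono d.W_norm).trans (le_normalizer_map _), fun M hWM hMX hM => ?_, ?_, ?_⟩
  · exact h2.trans (index_map_dvd T (QuotientGroup.mk'_surjective R))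
  · haveI : Fact r.Prime := ⟨hr⟩
    refine prankLE_quot R (fun hd => hr2 ?_) (hrank r hr hr2)
    obtain ⟨k, hk⟩ := IsPGroup.iff_card.1 (Cores.isPGroup_pCore 2 G)
    exact (Nat.prime_dvd_prime_iff_eq hr Nat.prime_two).1 (hr.dvd_of_dvd_pow (hk ▸ hd))
  · -- generation
    set M1 := X ⊓ M.comap π with hM1
    have hM1eq : M1 = X := d.gen M1
      (le_inf (d.W_le.trans d.sec.le) (map_le_iff_le_comap.1 hWM)) inf_le_left (by
        refine le_antisymm (sup_le inf_le_left d.sec.le) fun x hx => ?_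
        have hx' : π x ∈ ((M ⊔ Y0.map π : Subgroup _) : Set _) := hM.ge (mem_map_of_mem π hx)
        rw [coe_mul_of_left_le_normalizer_right _ _
          ((hMX.trans (map_mono (le_sup_left.trans d.sec.norm₀))).trans (le_normalizer_map π)),
          Set.mem_mul] at hx'
        obtain ⟨a, ha, b, hb, he⟩ := hx'
        obtain ⟨y0, hy0, rfl⟩ := hb
        have h1 : x * y0⁻¹ ∈ M1 := ⟨X.mul_mem hx (X.inv_mem (d.sec.le hy0)), by
          show π (x * y0⁻¹) ∈ M
          rw [map_mul, map_inv, ← he, mul_inv_cancel_right]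
          exact ha⟩
        have := mul_mem (mem_sup_left (T := Y0) h1) (mem_sup_right (S := M1) hy0)
        simpa using this)
    refine le_antisymm hMX ?_
    rw [← hM1eq]
    exact (map_mono inf_le_right).trans (map_comap_le _ _)
  · refine le_antisymm ((closure_le _).2 fun x hx => hx.1) ?_
    conv_lhs => rw [← d.odd]
    rw [MonoidHom.map_closure]
    refine closure_mono ?_
    rintro _ ⟨x, ⟨hx, hxo⟩, rfl⟩
    exact ⟨mem_map_of_mem π hx, hxo.of_dvd_nat (orderOf_map_dvd π x)⟩
  · rcases d.str with ⟨h1, h2, h3⟩ | ⟨h1, h2⟩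
    · refine Or.inl ⟨hrelW.trans h1, ?_, ?_⟩
      · rintro _ ⟨x, hx, rfl⟩ _ ⟨y, hy, rfl⟩
        exact ⟨_, h2 x hx y hy, map_commutatorElement π x y⟩
      · rintro _ ⟨x, hx, rfl⟩
        exact ⟨_, h3 x hx, map_pow π x p⟩
    · refine Or.inr ⟨hrelW.trans h1, fun hall => h2 fun x hx y hy => ?_⟩
      refine hmem W _ ?_ le_rfl (d.W_le.trans d.sec.le) ?_
      · rw [commutatorElement_def]
        exact X.mul_mem (X.mul_mem (X.mul_mem hx hy) (X.inv_mem hx)) (X.inv_mem hy)
      · rw [map_commutatorElement]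
        exact hall _ (mem_map_of_mem π hx) _ (mem_map_of_mem π hy)

/-- A component of `M / O₂(M)` gives a member of `ℒ(G, T)`. -/
theorem exists_calL_of_component {M T : Subgroup G} (hTM : T ≤ M)
    (hT : IsPGroup 2 T ∧ ¬ 2 ∣ T.index) (hR0 : Cfsg.pCore 2 ↥M ≠ ⊥)
    {K : Subgroup (↥M ⧸ Cfsg.pCore 2 ↥M)} (hK : Cfsg.IsComponent K) :
    ∃ L : Subgroup G, L ≤ M ∧ L ∈ Cfsg.calL T ∧ Cfsg.IsQuasisimple (↥L ⧸ Cfsg.pCore 2 ↥L) ∧
      (L.subgroupOf M).map (QuotientGroup.mk' (Cfsg.pCore 2 ↥M)) = K := by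
  haveI : Fact (Nat.Prime 2) := ⟨Nat.prime_two⟩
  set R := Cfsg.pCore 2 ↥M with hR
  set π := QuotientGroup.mk' R with hπ
  obtain ⟨L, ⟨hLsn, hLK⟩, hLmin⟩ := Set.Finite.exists_minimal
    (s := {L : Subgroup ↥M | L.IsSubnormal ∧ L.map π = K}) (Set.toFinite _)
    ⟨K.comap π, hK.1.comap π,
      map_comap_eq_self_of_surjective (QuotientGroup.mk'_surjective R) K⟩
  have hKperf := Components.IsComponent.perfect hK
  have hLperf : ⁅L, L⁆ = L := le_antisymm (commutator_le_self L) (hLmin
    ⟨IsSubnormal.step _ _ (commutator_le_self L) hLsn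
      (normal_subgroupOf_of_le_normalizer (normalizer_commutator_ge_left L L)),
      by rw [Subgroup.map_commutator, hLK, hKperf]⟩ (commutator_le_self L))
  have hLne : L ≠ ⊥ := fun h => Components.IsComponent.ne_bot hK (by rw [← hLK, h, Subgroup.map_bot])
  have hRp : IsPGroup 2 R := Cores.isPGroup_pCore 2 ↥M
  have hperf2 : ∀ A : Subgroup ↥M, ⁅A, A⁆ = A → IsPGroup 2 A → A = ⊥ := fun A hA hA2 => by
    by_contra hne
    haveI : Nontrivial A := (nontrivial_iff_ne_bot A).2 hne
    haveI : Group.IsNilpotent A := hA2.isNilpotent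
    refine (IsSolvable.commutator_lt_top_of_nontrivial A).ne ?_
    apply map_injective A.subtype_injective
    rw [_root_.commutator_def, Subgroup.map_commutator, ← MonoidHom.range_eq_map, range_subtype, hA]
  set Lg := L.map M.subtype with hLg
  have hLgM : Lg ≤ M := map_subtype_le _
  have hLgof : Lg.subgroupOf M = L := comap_map_eq_self_of_injective M.subtype_injective L
  set J := Lg ⊔ T with hJ
  have hJM : J ≤ M := sup_le hLgM hTM
  -- the 2-core of `M` lies in `T`
  have hTM2 : IsPGroup 2 (T.subgroupOf M) := hT.1.of_equiv (subgroupOfEquivOfLe hTM).symm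
  have hRT : R.map M.subtype ≤ T := by
    have h1 : R ≤ T.subgroupOf M := Cores.pCore_le_sylow (hTM2.toSylow (fun h => hT.2
      (h.trans ⟨M.index, (relIndex_mul_index hTM).symm⟩)))
    exact (map_mono h1).trans (by rw [subgroupOf_map_subtype]; exact inf_le_left)
  have hsnJ : (Lg.subgroupOf J).IsSubnormal := by
    have h1 : (Lg.subgroupOf M).IsSubnormal := hLgof.symm ▸ hLsn
    exact h1.comap (inclusion hJM)
  have hLgK : (Lg.subgroupOf M).map π = K := by rw [hLgof, hLK]
  refine ⟨Lg, hLgM, ⟨⟨?_, ?_, hsnJ, fun A hA hA' => ?_⟩, ⟨?_, ?_⟩, ?_⟩, ?_, hLgK⟩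
  · intro h
    rw [subgroupOf_eq_bot, disjoint_iff, inf_eq_left.2 (le_sup_left : Lg ≤ J)] at h
    exact hLne ((Subgroup.map_eq_bot_iff_of_injective _ M.subtype_injective).1 h)
  · apply map_injective J.subtype_injective
    rw [Subgroup.map_commutator, subgroupOf_map_subtype, inf_of_le_left (le_sup_left : Lg ≤ J), hLg,
      ← Subgroup.map_commutator, hLperf]
  · -- minimality
    obtain ⟨hAne, hAperf, hAsn⟩ := hA'
    set Ag := A.map J.subtype with hAg
    have hAgLg : Ag ≤ Lg := (map_mono hA.le).trans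
      (by rw [subgroupOf_map_subtype]; exact inf_le_left)
    set B := Ag.subgroupOf M with hB
    have hBL : B ≤ L := hLgof ▸ (fun x hx => hAgLg hx)
    have hBsn : B.IsSubnormal := by
      have h1 : (Ag.subgroupOf J).IsSubnormal := by
        rw [hAg, subgroupOf, comap_map_eq_self_of_injective J.subtype_injective]; exact hAsn
      have h2 : (Ag.subgroupOf Lg).IsSubnormal := by
        exact h1.comap (inclusion (le_sup_left : Lg ≤ J))
      have h3 : (B.subgroupOf L).IsSubnormal := by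
        have h4 := h2.comap (L.equivMapOfInjective M.subtype M.subtype_injective).toMonoidHom
        exact h4
      exact IsSubnormal.trans hBL h3 hLsn
    have hBperf : ⁅B, B⁆ = B := by
      apply map_injective M.subtype_injective
      rw [Subgroup.map_commutator, hB, subgroupOf_map_subtype, inf_of_le_left (hAgLg.trans hLgM), hAg,
        ← Subgroup.map_commutator, hAperf]
    have hne : B ≠ L := fun e => hA.ne (by
      apply map_injective J.subtype_injective
      rw [← hAg, subgroupOf_map_subtype, inf_of_le_left (le_sup_left : Lg ≤ J), hLg, ← e, hB,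
        subgroupOf_map_subtype, inf_of_le_left (hAgLg.trans hLgM)])
    rcases Components.IsQuasisimple.eq_top_or_le_center hK.2
        ((hBsn.map (QuotientGroup.mk'_surjective R)).subgroupOf (K := K)) with hc | hc
    · exact hne (le_antisymm hBL (hLmin ⟨hBsn, le_antisymm (hLK ▸ map_mono hBL)
        (subgroupOf_eq_top.1 hc)⟩ hBL))
    · apply hAne
      have hB0 : B.map π = ⊥ := by
        have hle : B.map π ≤ centralizer (K : Set _) := by
          have h1 := map_mono (f := K.subtype) hc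
          rw [map_subgroupOf_eq_of_le (hLK ▸ map_mono hBL)] at h1
          exact h1.trans (Components.center_map_subtype_le_centralizer K)
        have hp' : ⁅B.map π, B.map π⁆ = B.map π := by rw [← Subgroup.map_commutator, hBperf]
        rw [← hp', commutator_eq_bot_iff_le_centralizer]
        exact hle.trans (centralizer_le (SetLike.coe_subset_coe.2 (hLK ▸ map_mono hBL)))
      have hBR : B ≤ R := by rwa [Subgroup.map_eq_bot_iff, hπ, QuotientGroup.ker_mk'] at hB0
      have hBbot := hperf2 B hBperf (hRp.to_le hBR)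
      have hAgbot : Ag = ⊥ := by
        rw [hB, subgroupOf_eq_bot, disjoint_iff, inf_eq_left.2 (hAgLg.trans hLgM)] at hBbot
        exact hBbot
      exact (Subgroup.map_eq_bot_iff_of_injective _ J.subtype_injective).1 hAgbot
  · exact (hT.1.of_equiv (subgroupOfEquivOfLe (le_sup_right : T ≤ J)).symm).toSylow (fun h => hT.2
      (h.trans ⟨J.index, (relIndex_mul_index (le_sup_right : T ≤ J)).symm⟩))
  · rfl
  · -- the 2-core of `J`
    intro h
    have hRJ : R.map M.subtype ≤ J := hRT.trans le_sup_right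
    haveI : ((R.map M.subtype).subgroupOf J).Normal := normal_subgroupOf_of_le_normalizer (by
      refine hJM.trans ?_
      have h1 := le_normalizer_map (H := R) M.subtype
      rwa [normalizer_eq_top, ← MonoidHom.range_eq_map, range_subtype] at h1)
    have h2 : (R.map M.subtype).subgroupOf J ≤ Cfsg.pCore 2 ↥J :=
      Cores.le_pCore inferInstance ((hRp.map _).of_equiv (subgroupOfEquivOfLe hRJ).symm)
    rw [h, le_bot_iff, subgroupOf_eq_bot, disjoint_iff, inf_eq_left.2 hRJ] at h2
    exact hR0 ((Subgroup.map_eq_bot_iff_of_injective _ M.subtype_injective).1 h2)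
  · -- `L / O₂(L) ≅ K`
    let e := L.equivMapOfInjective M.subtype M.subtype_injective
    let f : ↥L →* ↥K := ((π.comp L.subtype).codRestrict K fun x => hLK ▸ mem_map_of_mem π x.2)
    have hfsurj : Function.Surjective f := fun k => by
      obtain ⟨x, hx, he⟩ := hLK.ge k.2
      exact ⟨⟨x, hx⟩, Subtype.ext he⟩
    have hker : f.ker = Cfsg.pCore 2 ↥L := by
      have hk : f.ker = R.subgroupOf L := by
        ext x
        rw [MonoidHom.mem_ker, mem_subgroupOf, Subtype.ext_iff]
        exact QuotientGroup.eq_one_iff (x : ↥M)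
      refine le_antisymm (Cores.le_pCore inferInstance (hk ▸ hRp.comap_subtype)) ?_
      have h1 : (Cfsg.pCore 2 ↥L).map f ≤ Cfsg.pCore 2 ↥K :=
        Cores.le_pCore (Normal.map inferInstance f hfsurj) ((Cores.isPGroup_pCore 2 ↥L).map f)
      have h2 : Cfsg.pCore 2 ↥K = ⊥ := by
        have h3 := Cores.pCore_map_le_of_isSubnormal hK.1 2
        rw [Cores.pCore_quotient_self] at h3
        exact (Subgroup.map_eq_bot_iff_of_injective _ K.subtype_injective).1 (le_bot_iff.1 h3)
      rw [h2, le_bot_iff, Subgroup.map_eq_bot_iff] at h1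
      exact h1
    have hcongr : (Cfsg.pCore 2 ↥L).map e.toMonoidHom = Cfsg.pCore 2 ↥Lg :=
      Cores.pCore_map_mulEquiv e 2
    refine (Components.isQuasisimple_congr
      (((QuotientGroup.congr _ _ e hcongr).symm.trans (QuotientGroup.quotientMulEquivOfEq hker.symm)).trans
        (QuotientGroup.quotientKerEquivOfSurjective f hfsurj))).2 hK.2

/-- A member of `Ξ*(G, T)` is normal in every maximal 2-local containing `X T`. -/
theorem normalizer_eq (hQ : Cfsg.IsQTKE G) (T : Sylow 2 G) {X : Subgroup G}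
    (hX : X ∈ Cfsg.XiStar (T : Subgroup G)) {M : Subgroup G} (hM : Cfsg.IsMaximalTwoLocal M)
    (hXT : X ⊔ (T : Subgroup G) ≤ M) : normalizer (X : Set G) = M := by
  haveI : Fact (Nat.Prime 2) := ⟨Nat.prime_two⟩
  obtain ⟨⟨hodd, hTn, -, ⟨p, hp, hp2, hcase⟩, hirr⟩, hstar⟩ := hX
  haveI : Fact p.Prime := ⟨hp⟩
  have hd := xiData hodd hTn hcase hirr
  set W := (Cfsg.pCore 2 ↥X).map X.subtype with hW
  set Y0 := Cfsg.twoPhiCore X with hY0
  have hTM : (T : Subgroup G) ≤ M := le_sup_right.trans hXT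
  have hXM : X ≤ M := le_sup_left.trans hXT
  obtain ⟨Q, hQ2, hQne, hMQ⟩ := hM.1
  have hchar : Cfsg.IsOfCharacteristicTwo M := hQ.2.2 M hM.1 ⟨T, hTM⟩
  set R := Cfsg.pCore 2 ↥M with hR
  have hR0 : R ≠ ⊥ := by
    intro h
    have hQM : Q ≤ M := hMQ ▸ le_normalizer
    haveI : (Q.subgroupOf M).Normal := normal_subgroupOf_of_le_normalizer hMQ.le
    have h1 : Q.subgroupOf M ≤ R :=
      Cores.le_pCore inferInstance (hQ2.of_equiv (subgroupOfEquivOfLe hQM).symm)
    rw [h, le_bot_iff, subgroupOf_eq_bot, disjoint_iff, inf_eq_left.2 hQM] at h1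
    exact hQne h1
  -- the data inside `M`
  have hTidx : ¬ 2 ∣ ((T : Subgroup G).subgroupOf M).index := fun h =>
    T.not_dvd_index (h.trans ⟨M.index, (relIndex_mul_index hTM).symm⟩)
  have hT2 : IsPGroup 2 ((T : Subgroup G).subgroupOf M) :=
    T.2.of_equiv (subgroupOfEquivOfLe hTM).symm
  have hdM : XiData p ((T : Subgroup G).subgroupOf M) (W.subgroupOf M) (Y0.subgroupOf M)
      (X.subgroupOf M) := by
    have hY0M : Y0 ≤ M := hd.sec.le.trans hXM
    have hWM : W ≤ M := hd.W_le.trans hY0M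
    have hsup : X.subgroupOf M ⊔ (T : Subgroup G).subgroupOf M =
        (X ⊔ (T : Subgroup G)).subgroupOf M := (subgroupOf_sup hXM hTM).symm
    have hnorm : ∀ A : Subgroup G, X ⊔ (T : Subgroup G) ≤ normalizer (A : Set G) →
        (X ⊔ (T : Subgroup G)).subgroupOf M ≤ normalizer ((A.subgroupOf M : Subgroup M) : Set M) :=
      fun A hA => (comap_mono hA).trans (le_normalizer_comap M.subtype)
    refine ⟨⟨comap_mono hd.sec.le, le_sup_left, hsup ▸ hnorm X hd.sec.norm,
        hsup ▸ hnorm Y0 hd.sec.norm₀, by rw [relIndex_subgroupOf hXM]; exact hd.sec.card,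
        fun K h1 h2 h3 => ?_⟩,
      hd.W2.of_equiv (subgroupOfEquivOfLe hWM).symm, comap_mono hd.W_le,
      hsup ▸ hnorm W hd.W_norm, fun N hN hN2 hNn => ?_, fun A h1 h2 h3 => ?_, ?_, ?_⟩
    · have hK : (K.map M.subtype).subgroupOf M = K := comap_map_eq_self_of_injective M.subtype_injective K
      have hlo : Y0 ≤ K.map M.subtype := by
        have := map_mono (f := M.subtype) h1
        rwa [subgroupOf_map_subtype, inf_of_le_left hY0M] at this
      have hhi : K.map M.subtype ≤ X :=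
        (map_mono h2).trans (by rw [subgroupOf_map_subtype]; exact inf_le_left)
      have hn : X ⊔ (T : Subgroup G) ≤ normalizer ((K.map M.subtype : Subgroup G) : Set G) := by
        have := (map_mono (f := M.subtype) (hsup.ge.trans h3)).trans (le_normalizer_map M.subtype)
        rwa [subgroupOf_map_subtype, inf_of_le_left hXT] at this
      rcases hd.sec.between _ hlo hhi hn with e | e
      · left; rw [← hK, e]
      · right; rw [← hK, e]
    · intro x hx
      refine hd.W_max (N.map M.subtype)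
        ((map_mono hN).trans (by rw [subgroupOf_map_subtype]; exact inf_le_left)) (hN2.map _) ?_
        (mem_map_of_mem M.subtype hx)
      have := (map_mono (f := M.subtype) hNn).trans (le_normalizer_map M.subtype)
      rwa [subgroupOf_map_subtype, inf_of_le_left hXM] at this
    · have hA : (A.map M.subtype).subgroupOf M = A := comap_map_eq_self_of_injective M.subtype_injective A
      have := hd.gen (A.map M.subtype)
        (by
          have := map_mono (f := M.subtype) h1
          rwa [subgroupOf_map_subtype, inf_of_le_left hWM] at this)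
        ((map_mono h2).trans (by rw [subgroupOf_map_subtype]; exact inf_le_left))
        (by
          have := congrArg (Subgroup.map M.subtype) h3
          rwa [Subgroup.map_sup, subgroupOf_map_subtype, subgroupOf_map_subtype,
            inf_of_le_left hY0M, inf_of_le_left hXM] at this)
      rw [← hA, this]
    · apply map_injective M.subtype_injective
      rw [MonoidHom.map_closure, subgroupOf_map_subtype, inf_of_le_left hXM]
      refine Eq.trans (congrArg Subgroup.closure ?_) hd.odd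
      ext x
      constructor
      · rintro ⟨y, ⟨hy, hyo⟩, rfl⟩
        exact ⟨hy, by rwa [Subgroup.coe_subtype, orderOf_coe]⟩
      · rintro ⟨hx, hxo⟩
        exact ⟨⟨x, hXM hx⟩, ⟨hx, by rwa [← orderOf_coe]⟩, rfl⟩
    · rcases hd.str with ⟨h1, h2, h3⟩ | ⟨h1, h2⟩
      · exact Or.inl ⟨by rw [relIndex_subgroupOf hXM]; exact h1,
          fun x hx y hy => mem_subgroupOf.2 (by simpa [commutatorElement_def] using h2 x hx y hy),
          fun x hx => mem_subgroupOf.2 (by simpa using h3 x hx)⟩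
      · refine Or.inr ⟨by rw [relIndex_subgroupOf hXM]; exact h1, fun hall => h2 fun x hx y hy => ?_⟩
        have := hall ⟨x, hXM hx⟩ hx ⟨y, hXM hy⟩ hy
        simpa [mem_subgroupOf, commutatorElement_def] using this
  have hset := setup_of_data hp2 hdM ⟨hT2, hTidx⟩ fun r hr hr2 => hQ.1 r hr hr2 M hM.1
  have hRT : R ≤ (T : Subgroup G).subgroupOf M := Cores.pCore_le_sylow (hT2.toSylow hTidx)
  set XM := X.subgroupOf M with hXMdef
  set TM := (T : Subgroup G).subgroupOf M with hTMdef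
  rcases hset.place with hnorm | ⟨K, hK, hXK⟩
  swap
  · -- the component case contradicts the choice of `X`
    exfalso
    obtain ⟨L, hLM, hL, hLq, hLK⟩ := exists_calL_of_component hTM ⟨T.2, T.not_dvd_index⟩ hR0 hK
    refine hstar L hL hLq (sup_le ?_ le_sup_right)
    set J := (L ⊔ (T : Subgroup G)).subgroupOf M with hJ
    have hLJ : L.subgroupOf M ≤ J := comap_mono le_sup_left
    have hTJ : TM ≤ J := comap_mono le_sup_right
    have h1 : XM.map (QuotientGroup.mk' R) ≤ J.map (QuotientGroup.mk' R) := by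
      refine hXK.trans (iSup_le fun s => ?_)
      rintro _ ⟨k, hk, rfl⟩
      obtain ⟨t, ht, hts⟩ := s.2
      rw [← hLK] at hk
      obtain ⟨l, hl, rfl⟩ := hk
      refine ⟨t * l * t⁻¹, J.mul_mem (J.mul_mem (hTJ ht) (hLJ hl)) (J.inv_mem (hTJ ht)), ?_⟩
      rw [map_mul, map_mul, map_inv, hts]
      rfl
    intro x hx
    obtain ⟨j, hj, he⟩ := h1 ⟨⟨x, hXM hx⟩, hx, rfl⟩
    have h2 : j⁻¹ * ⟨x, hXM hx⟩ ∈ R := QuotientGroup.eq.1 he
    have h3 := mem_subgroupOf.1 (J.mul_mem hj (hTJ (hRT h2)))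
    simpa using h3
  -- `X O₂(M)` is normal, hence so is `X`
  haveI hXRn : (XM ⊔ R).Normal := by
    have e : (XM.map (QuotientGroup.mk' R)).comap (QuotientGroup.mk' R) = XM ⊔ R := by
      rw [comap_map_eq, QuotientGroup.ker_mk']
    rw [← e]
    exact hnorm.comap _
  have hRn : R ≤ normalizer (XM : Set M) :=
    hRT.trans (le_sup_right.trans hdM.sec.norm)
  have hXnormal : XM.Normal := by
    refine ⟨fun x hx g => ?_⟩
    rw [← hdM.odd] at hx
    induction hx using closure_induction with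
    | mem x hx =>
      obtain ⟨hxX, hxo⟩ := hx
      have hy : g * x * g⁻¹ ∈ XM ⊔ R := hXRn.conj_mem x (mem_sup_left hxX) g
      have hy' : g * x * g⁻¹ ∈ ((XM ⊔ R : Subgroup M) : Set M) := hy
      rw [coe_mul_of_right_le_normalizer_left _ _ hRn, Set.mem_mul] at hy'
      obtain ⟨a, ha, r, hr, he⟩ := hy'
      obtain ⟨k, hk⟩ := (Cores.isPGroup_pCore 2 ↥M) ⟨r, hr⟩
      have hpow : ∀ j : ℕ, (r ^ j) * ((a * r) ^ j)⁻¹ ∈ XM := by
        intro j
        induction j with
        | zero => simp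
        | succ j ih =>
          have h1 : r * (r ^ j * ((a * r) ^ j)⁻¹) * r⁻¹ ∈ XM := conjMem hRn hr ih
          have e : r ^ (j + 1) * ((a * r) ^ (j + 1))⁻¹ =
              (r * (r ^ j * ((a * r) ^ j)⁻¹) * r⁻¹) * a⁻¹ := by
            rw [pow_succ' r, pow_succ' (a * r), mul_inv_rev, mul_inv_rev]; simp [mul_assoc]
          rw [e]
          exact mul_mem h1 (inv_mem ha)
      have h2 := hpow (2 ^ k)
      have hk' : r ^ 2 ^ k = 1 := by simpa using congrArg Subtype.val hk
      rw [hk', one_mul, he] at h2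
      refine mem_of_pow_coprime k (inv_mem_iff.1 h2) ?_
      rw [← MulAut.conj_apply, MulEquiv.orderOf_eq]
      exact Nat.coprime_two_right.2 hxo
    | one => simp
    | mul a b _ _ ha hb =>
      rw [show g * (a * b) * g⁻¹ = (g * a * g⁻¹) * (g * b * g⁻¹) by group]; exact mul_mem ha hb
    | inv a _ ha =>
      rw [show g * a⁻¹ * g⁻¹ = (g * a * g⁻¹)⁻¹ by group]; exact inv_mem ha
  have hMX : M ≤ normalizer (X : Set G) := by
    refine leNormalizerOf fun m hm x hx => ?_
    exact hXnormal.conj_mem ⟨x, hXM hx⟩ hx ⟨m, hm⟩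
  -- `O₂(X) ≠ 1`
  have hW0 : W ≠ ⊥ := by
    intro h
    haveI := hXnormal
    have hbot : XM ⊓ R = ⊥ := by
      refine le_bot_iff.1 ((hdM.W_max _ inf_le_left ((Cores.isPGroup_pCore 2 ↥M).to_le inf_le_right)
        (normInf le_normalizer (normalizer_eq_top (H := R) ▸ le_top))).trans ?_)
      rw [h, bot_subgroupOf]
    have hc : XM ≤ centralizer (R : Set M) := by
      rw [← commutator_eq_bot_iff_le_centralizer, eq_bot_iff, ← hbot]
      exact commutator_le_inf XM R
    have h2 : IsPGroup 2 XM := (Cores.isPGroup_pCore 2 ↥M).to_le (hc.trans hchar)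
    have h3 : p ∣ Nat.card XM := by
      refine (dvd_pow_self p two_ne_zero).trans ?_
      rw [← hdM.sec.card]
      exact relIndex_dvd_card _ _
    obtain ⟨k, hk⟩ := IsPGroup.iff_card.1 h2
    exact hp2 ((Nat.prime_dvd_prime_iff_eq hp Nat.prime_two).1 (hp.dvd_of_dvd_pow (hk ▸ h3)))
  have hNW : normalizer (X : Set G) ≤ normalizer (W : Set G) := by
    refine leNormalizerOf fun v hv k hk => ?_
    obtain ⟨k', hk', rfl⟩ := hk
    exact ⟨X.normalizerMonoidHom ⟨v, hv⟩ k', (PGroup.aut_mem_iff _ k').2 hk', rfl⟩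
  have hW2 : Cfsg.IsTwoLocal (normalizer (W : Set G)) := ⟨W, hd.W2, hW0, rfl⟩
  have h := hM.2 _ hW2 (hMX.trans hNW)
  exact le_antisymm (h ▸ hNW) hMX

/-- Solvable uniqueness groups. -/
theorem maxTwoLocalsContaining_eq (hQ : Cfsg.IsQTKE G) (T : Sylow 2 G) {X : Subgroup G}
    (hX : X ∈ Cfsg.XiStar (T : Subgroup G)) :
    Cfsg.maxTwoLocalsContaining (X ⊔ (T : Subgroup G)) = {normalizer (X : Set G)} := by
  set V := X ⊔ (T : Subgroup G) with hV
  have hne : Cfsg.pCore 2 ↥V ≠ ⊥ := hX.1.2.2.1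
  set R1 := (Cfsg.pCore 2 ↥V).map V.subtype with hR1
  have hVn : V ≤ normalizer (R1 : Set G) := by
    have h1 := le_normalizer_map (H := Cfsg.pCore 2 ↥V) V.subtype
    rwa [normalizer_eq_top, ← MonoidHom.range_eq_map, range_subtype] at h1
  obtain ⟨M, hM, hle⟩ := exists_maximalTwoLocal (L := normalizer (R1 : Set G))
    ⟨R1, (Cores.isPGroup_pCore 2 ↥V).map _,
      fun h => hne ((Subgroup.map_eq_bot_iff_of_injective _ V.subtype_injective).1 h), rfl⟩
  have hMeq := normalizer_eq hQ T hX hM (hVn.trans hle)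
  ext M'
  constructor
  · rintro ⟨hM', hle'⟩
    exact (normalizer_eq hQ T hX hM' hle').symm
  · rintro (rfl : M' = _)
    rw [hMeq]
    exact ⟨hM, hVn.trans hle⟩

end Cfsg.Agent.QTXi
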